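import Cfsg.Agent.XT.PlusA
import Cfsg.Agent.L4Q.Link

/-! The centraliser of a `2`-central involution of `L₄(3)` is `2^{1+4} : Ω₄⁺(2)`. -/

set_option autoImplicit false
set_option maxRecDepth 100000
set_option synthInstance.maxHeartbeats 400000
set_option synthInstance.maxSize 4000

namespace Cfsg.Agent.XT

open Subgroup Cfsg.Agent.X32 Cfsg.Agent.Comp Cfsg.Agent.X32.TG Cfsg.Agent.L4Q Cfsg.Agent.RootSub
open Cfsg.Agent.PS4 (t16)

section
variable {G : Type*} [Group G] {N O : Type} [Group N] [Group O] {ac : O → N → N} {z0 : N}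
  {ψ : N →* G}

/-- the action as a homomorphism -/
def Md.aut (d : Md ac z0) : O →* MulAut N :=
  MonoidHom.mk' (fun a => ⟨⟨ac a, ac a⁻¹, fun k => by rw [← d.mul_l, inv_mul_cancel, d.one],
    d.ac_ac a⟩, d.mul_r a⟩) fun a b => MulEquiv.ext (d.mul_l a b)

theorem Md.equiv_sd (d : Md ac z0) (inj : Function.Injective ψ) {W : Subgroup O} (σ : W →* G)
    (hσ : ∀ w, R ac ψ (σ w) w) {H : Subgroup G} (hH : ∀ x, x ∈ H ↔ ∃ q w, ψ q * σ w = x) :
    Nonempty (N ⋊[d.aut.comp W.subtype] W ≃* H) := by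
  let f : N ⋊[d.aut.comp W.subtype] W →* G :=
    SemidirectProduct.lift ψ σ fun w => MonoidHom.ext fun k => (hσ w k).symm
  have i : Function.Injective f := (injective_iff_map_eq_one f).2 fun ⟨q, w⟩ a => by
    change ψ q * σ w = 1 at a
    obtain rfl : w = 1 := Subtype.ext (d.faith q⁻¹ _ fun k => inj (by
      rw [← hσ, eq_inv_of_mul_eq_one_right a]; simp))
    rw [map_one, mul_one, map_eq_one_iff _ inj] at a
    rw [a]; rfl
  exact ⟨(MonoidHom.ofInjective i).trans (MulEquiv.subgroupCongr (Subgroup.ext fun x =>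
    ⟨fun ⟨m, a⟩ => (hH x).2 ⟨m.1, m.2, a⟩, fun a => let ⟨q, w, b⟩ := (hH x).1 a; ⟨⟨q, w⟩, b⟩⟩))⟩

end

/-- a matrix stored in eight bits -/
def m3 (c : ℕ) : M2 (ZMod 3) :=
  !![Fin.ofNat 3 (Nat.land c 3), Fin.ofNat 3 (Nat.land (Nat.shiftRight c 2) 3);
    Fin.ofNat 3 (Nat.land (Nat.shiftRight c 4) 3), Fin.ofNat 3 (Nat.land (Nat.shiftRight c 6) 3)]

noncomputable def tL1 : ℕ := nat_lit 0xa924562495416a4141a941951841244182a98295189524a96a9595a982244124249518a9a94195956aa95641a9a9a9956a24242456a956959524182441824141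

noncomputable def tL2 : ℕ := nat_lit 0x414141414141414141414141414141414141414141414141414141414141414141414141414141414141414141414141414141414141414141414141414141414141414141414141494141494545414545414949454949454141858181858989818989818585898585898181858181858989818989818585898585898181494141494545414545414949454949454141

theorem det3 : (∀ i < 32, (m3 (t16 tL1 i)).det * (m3 (Nat.shiftRight (t16 tL1 i) 8)).det = 1) ∧
    ∀ i < 72, (m3 (t16 tL2 i)).det * (m3 (Nat.shiftRight (t16 tL2 i) 8)).det = 1 := by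
  simp only [Matrix.det_fin_two]
  decide +kernel

/-- the elements of the extraspecial group -/
noncomputable def k1 (q : NP) : HK (ZMod 3) := ⟨_, _, false, det3.1 q.v q.lt⟩

/-- the elements of the complement -/
noncomputable def k2 (o : OP) : HK (ZMod 3) := ⟨_, _, Nat.ble 18 o.v, det3.2 o.v o.lt⟩

instance (x y : HK (ZMod 3)) : Decidable (Sc x y) := by unfold Sc; infer_instance

instance bdSc (x y : HK (ZMod 3)) : BD (Sc x y) (decide (Sc x y)) := ⟨decide_eq_true_iff⟩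

theorem k12 : (∀ q r, Sc (k1 (q * r)) (k1 q * k1 r)) ∧ (∀ q, Sc (k1 q) 1 → q = 1) ∧
    (∀ a, Mem mO a → ∀ b, Mem mO b → Sc (k2 (a * b)) (k2 a * k2 b)) ∧
    (∀ a, Mem mO a → ∀ q, Sc (k2 a * k1 q) (k1 (acP a q) * k2 a)) ∧
    Sc (k1 (e 1)) t0 ∧ Sc (k1 1 * k2 (e 5)) (i1 (xx 1)) ∧ Sc (k1 (e 26) * k2 (e 7)) (i1 (yy 1)) ∧
    Sc (k1 1 * k2 (e 9)) t2 ∧ Sc (k1 1 * k2 (e 27)) ws ∧
    Mem mO (e 5 : OP) ∧ Mem mO (e 7 : OP) ∧ Mem mO (e 9 : OP) ∧ Mem mO (e 27 : OP) :=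
  BD.of (by decide +kernel)

theorem hk_top {H : Subgroup (HK (ZMod 3))} (h1 : i1 (xx 1) ∈ H) (h2 : i1 (yy 1) ∈ H) (h3 : t2 ∈ H)
    (h4 : ws ∈ H) (k : HK (ZMod 3)) : k ∈ H := by
  have c : ∀ r : ZMod 3, r = 0 ∨ r = 1 ∨ r = 1 + 1 := by decide
  have a1 : ∀ X, i1 X ∈ H := fun X => (sl2_eq_top (H := H.comap i1) (fun r => by
    rcases c r with rfl | rfl | rfl
    exacts [xx_zero (K := ZMod 3) ▸ one_mem _, h1, xx_mul (1 : ZMod 3) 1 ▸ mul_mem h1 h1]) fun r => by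
    rcases c r with rfl | rfl | rfl
    exacts [yy_zero (K := ZMod 3) ▸ one_mem _, h2, yy_mul (1 : ZMod 3) 1 ▸ mul_mem h2 h2]).ge
      (mem_top X)
  have a2 : ∀ X, i2 X ∈ H := fun X => by
    have : ws * i1 X * ws⁻¹ = i2 X := mul_inv_eq_iff_eq_mul.2 (by ext1 <;> simp)
    exact this ▸ mul_mem (mul_mem h4 (a1 X)) (inv_mem h4)
  have a3 : ∀ k : HK (ZMod 3), k.s = false → k.a.det = 1 → k ∈ H := fun k a b => by
    have : k = i1 ⟨k.a, b⟩ * i2 ⟨k.b, by simpa [b] using k.h⟩ := by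
      ext1
      exacts [(mul_one _).symm, (one_mul _).symm, a]
    exact this ▸ mul_mem (a1 _) (a2 _)
  have a4 : ∀ k : HK (ZMod 3), k.s = false → k ∈ H := fun k a => by
    rcases c k.a.det with b | b | b
    · exact absurd b k.da
    · exact a3 k a b
    · exact (mul_mem_cancel_right h3).1 (a3 _ (by simp [a]) (by simp [a, b, det_rm]; decide))
  cases a : k.s
  · exact a4 k a
  · exact (mul_mem_cancel_right h4).1 (a4 _ (by simp [a]))

theorem equiv_L43 : Nonempty (NP ⋊[mdP.aut.comp ΩP.subtype] ΩP ≃* centralizer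
    ({(QuotientGroup.mk (psi t0) : Matrix.ProjectiveSpecialLinearGroup (Fin 4) (ZMod 3))} : Set _)) := by
  obtain ⟨c1, c2, c3, c4, c5, c6, c7, c8, c9, d1, d2, d3, d4⟩ := k12
  let π := (QuotientGroup.mk' (center (Matrix.SpecialLinearGroup (Fin 4) (ZMod 3)))).comp psi
  have πe : ∀ x y, π x = π y ↔ Sc x y := fun x y => (mk_eq_iff _ _).trans (mat_smul_iff x y)
  let ψ : NP →* _ := MonoidHom.mk' (fun q => π (k1 q)) fun q r => by rw [← map_mul, πe]; exact c1 q r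
  let σ : ΩP →* _ := MonoidHom.mk' (fun o => π (k2 o)) fun a b => by
    rw [← map_mul, πe]; exact c3 _ a.2 _ b.2
  have inj : Function.Injective ψ :=
    (injective_iff_map_eq_one ψ).2 fun q a => c2 q ((πe _ _).1 (a.trans (map_one π).symm))
  have hσ : ∀ w, R acP ψ (σ w) w := fun w q => mul_inv_eq_iff_eq_mul.2 (by
    change π _ * π _ = π _ * π _
    rw [← map_mul, ← map_mul, πe]; exact c4 _ w.2 q)
  refine mdP.equiv_sd inj σ hσ fun x => ⟨fun a => ?_, ?_⟩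
  · obtain ⟨g, rfl⟩ := QuotientGroup.mk_surjective x
    obtain ⟨l, hl⟩ := (mk_eq_iff (g * psi t0) (psi t0 * g)).1 (mem_centralizer_singleton_iff.1 a)
    rw [Matrix.SpecialLinearGroup.coe_mul, Matrix.SpecialLinearGroup.coe_mul, psi_t0] at hl
    obtain ⟨k, rfl⟩ := exists_psi_eq (by decide) g hl
    let f : NP ⋊[mdP.aut.comp ΩP.subtype] ΩP →* _ :=
      SemidirectProduct.lift ψ σ fun w => MonoidHom.ext fun k => (hσ w k).symm
    have m : ∀ q o x, Mem mO o → Sc (k1 q * k2 o) x → x ∈ f.range.comap π := fun q o x a b =>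
      ⟨⟨q, ⟨o, a⟩⟩, (map_mul π _ _).symm.trans ((πe _ _).2 b)⟩
    obtain ⟨m, b⟩ := hk_top (m _ _ _ d1 c6) (m _ _ _ d2 c7) (m _ _ _ d3 c8) (m _ _ _ d4 c9) k
    exact ⟨m.1, m.2, b⟩
  · rintro ⟨q, w, rfl⟩
    exact mem_cent.2 ((πe _ _).2 c5 ▸ T.comm mdP ⟨q, _, hσ w, rfl⟩ : Commute _ (π t0))

end Cfsg.Agent.XT
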