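import Cfsg.Agent.XT.Base
import Cfsg.Agent.LES.Janko

/-! The case of an extraspecial group of minus type. -/

set_option autoImplicit false
set_option maxRecDepth 100000
set_option synthInstance.maxHeartbeats 400000
set_option synthInstance.maxSize 4000

namespace Cfsg.Agent.XT

open Subgroup Cfsg.Agent.TT Cfsg.Agent.LES Cfsg.Agent.X32 Cfsg.Agent.Comp Cfsg.Agent.X32.TG

noncomputable def mΩ : ℕ := nat_lit 0xfffffffffffffff

noncomputable def ΩM : Subgroup OM := sub mΩ (BD.of (by decide +kernel))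

noncomputable def UM : Subgroup OM := sub (nat_lit 15) (BD.of (by decide +kernel))

theorem ΩM_card : Nat.card ΩM = 60 := (card_sub (Mem mΩ) fun _ => Iff.rfl).trans (by decide +kernel)

noncomputable def tΩ : ℕ := nat_lit 0x1a2d30001168b0000009a0001345a000004d3000134d1000000590008b45a0008b4d1000022d10009a2d10000069a0000008b0000b459000000d300003459000002d30001a2d10001169a000d1699000d345a0000001a000004d1000022d3000000190005a2d1000d169a0001a68b0000068b000016990000345a0000269a000d168b0000169a0000268b0000045a00002699000034d10000000b0008b4590005a68b0009a2d3000d345900000013000000d100000459000116990000168b000006990000005a0000b4d1000000030000b45a000002d1000134590000009900000011000000020000000100000000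

variable {G : Type*} [Group G] [Finite G] {ψ : NM →* G} {K : Subgroup G}

theorem minus0 (h : St acM (e 1) ψ) (k : KK K ψ.range (ψ (e 1))) {g : G}
    (hg : g * ψ (e 1) * g⁻¹ = ψ (e 2)) : Concl K := by
  have ne : (e 2 : NM) ≠ e 1 := BD.of (by decide +kernel)
  have p := h.pair hg ne
  have hU : UM ≤ S h.toMd ψ := h.le_S_of_four hg ne VM_card
    ((card_sub (Mem (nat_lit 15)) fun _ => Iff.rfl).trans (by decide +kernel))
    (fun k a => (BD.of (by decide +kernel) : ∀ k : NM, k * k = 1 → Commute k (e 2) →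
      Mem (nat_lit 15) k) k (h.inj (by rw [map_mul, E_sq p ⟨⟨k, rfl⟩, a⟩, map_one]))
      (h.comm_iff.1 (p.hP.z_comm _ a)))
    (BD.of (p := ∀ o q, q * acM o (e 2) * q⁻¹ = e 2 → (∀ k, Commute k (e 2) →
      Mem (nat_lit 15) (q * acM o k * q⁻¹ * k⁻¹)) → Mem (nat_lit 15) o) (by decide +kernel))
  have c : Mem (nat_lit 15) (e 1 : OM) ∧ Mem (nat_lit 15) (e 2 : OM) ∧ (e 1 : OM) * e 1 = 1 ∧
    (e 1 : OM) ≠ 1 ∧ Mem mΩ (e 4 : OM) := BD.of (by decide +kernel)
  obtain ⟨b, b1, b2⟩ : ∃ b ∈ S h.toMd ψ, ¬ Commute (e 1) (b * e 1 * b⁻¹) := by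
    by_contra! a
    exact c.2.2.2.1 (h.nc (hU c.1) c.2.2.1 a)
  obtain ⟨W, -, hW⟩ := ((BD.of (by decide +kernel) : ∀ b : OM, Commute (e 1) (b * e 1 * b⁻¹) ∨
    ∃ W ∈ [[0, 1, 2, 0, 1], [0, 1, 2, 1, 2, 0, 1], [0, 2, 0], [0, 2, 0, 1, 2, 0], [0, 2, 1, 2, 0],
      [1, 2, 0, 1, 2, 1], [1, 2, 1], [1, 2, 1, 2, 1], [2], [2, 0, 1, 2], [2, 0, 1, 2, 0, 1, 2], [2, 1, 2]],
      BN.ev (tup [e 1, e 2, b * e 1 * b⁻¹]) W = e 8) b).resolve_left b2
  have h8 : e 8 ∈ S h.toMd ψ := hW ▸ ev_mem_of (by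
    simp only [List.forall_mem_cons]
    exact ⟨hU c.1, hU c.2.1, mul_mem (mul_mem b1 (hU c.1)) (inv_mem b1), by simp⟩) W
  have hΩ : ΩM ≤ S h.toMd ψ := fun o ho => by
    rw [← (BD.of (by decide +kernel) : ∀ o : OM, Mem mΩ o → th tΩ [e 1, e 2, e 8] o = o) o ho]
    exact ev_mem_of (by
      simp only [List.forall_mem_cons]
      exact ⟨hU c.1, hU c.2.1, h8, by simp⟩) _
  have hQ := h.le_of_fpf k.z_mem k.comm (hΩ c.2.2.2.2) (BD.of (by decide +kernel))
  by_cases hS : S h.toMd ψ ≤ ΩM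
  · have := k.simple_top hQ
    obtain ⟨a, π, d⟩ := exists_HJ h.lx h.cardQ (by rw [h.card_C, le_antisymm hS hΩ, ΩM_card])
      p.s_mem p.hP.z_sq (by rw [eqv_one_iff]; exact fun a => a.elim p.hP.z_ne p.ne)
    exact k.concl hQ (.inr (.inr (.inr (.inr (.inr (.inr d.isoJ2_or_isoJ3))))))
  obtain ⟨o, o1, o2⟩ := SetLike.not_le_iff_exists.1 hS
  have all : ∀ x, x ∈ S h.toMd ψ := fun x =>
    ((BD.of (by decide +kernel) : ∀ o : OM, ¬ Mem mΩ o → ∀ x, Mem mΩ x ∨ Mem mΩ (x * o)) o o2 x).elim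
      (@hΩ _) fun a => (mul_mem_cancel_right o1).1 (hΩ a)
  refine (h.tr (k.noIdx hQ) ΩM (by
      rw [(eq_top_iff' _).2 all, relIndex_top_right]; exact index_sub ΩM_card rfl)
    (all (e 60)) (all (e 27)) (BD.of (by decide +kernel)) (BD.of (by decide +kernel))
    (BD.of (p := ∀ o, Mem mΩ o → _) (by decide +kernel)) (BD.of (by decide +kernel))
    fun v a b => ?_).elim
  rcases (BD.of (by decide +kernel) : ∀ v : NM, v * v = 1 → v ≠ 1 → v = e 1 ∨
    ∃ o q, q * acM o (e 2) * q⁻¹ = v) v a b with rfl | ⟨o, q, d⟩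
  · exact IsConj.refl _
  · obtain ⟨x, hx⟩ := all o
    exact St.fused hx (isConj_iff.2 ⟨g, hg⟩) d

theorem minus (h : St acM (e 1) ψ) (k : KK K ψ.range (ψ (e 1))) {g : G} {v : NM}
    (hg : g * ψ (e 1) * g⁻¹ = ψ v) (hv : v ≠ e 1) : Concl K := by
  have p := h.pair hg hv
  obtain ⟨o, q, d⟩ := ((BD.of (by decide +kernel) : ∀ v : NM, v * v = 1 → v ≠ 1 → v = e 1 ∨
    ∃ o q, q * acM o (e 2) * q⁻¹ = v) v (h.inj (by rw [map_mul, p.hP.z_sq, map_one]))
      fun a => p.hP.z_ne (by rw [a, map_one])).resolve_left hv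
  obtain ⟨h', r⟩ := h.comp (h.toMd.β q o) (h.toMd.β_z q o)
  have ez : (ψ.comp (h.toMd.β q o)) (e 1) = ψ (e 1) := congrArg ψ (h.toMd.β_z q o)
  exact minus0 h' (by rwa [r, ez]) (g := g) (by rw [ez, hg, ← d]; rfl)

end Cfsg.Agent.XT
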