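import Cfsg.Agent.XT.PlusB

/-! Plus type: the transfer argument for `Q.Ω₄⁺(2)` with `Q ∩ Q^g` of order eight. -/

set_option autoImplicit false
set_option maxRecDepth 100000
set_option synthInstance.maxHeartbeats 400000
set_option synthInstance.maxSize 4000

namespace Cfsg.Agent.XT

open Subgroup Cfsg.Agent.TT Cfsg.Agent.LES Cfsg.Agent.X32 Cfsg.Agent.Comp Cfsg.Agent.X32.TG

variable {G : Type*} [Group G] [Finite G] {ψ : NP →* G} {K : Subgroup G} {g : G}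

theorem splP {a : OP} (ha : a = e 9 ∨ a = e 27) : (∀ q, q * acP a q ≠ e 1) ∧ ∀ q, q * acP a q = 1 →
    ∃ k, q = k * (acP a k)⁻¹ ∨ q = k * (acP a k)⁻¹ * e 1 := by
  rcases ha with rfl | rfl <;> exact BD.of (by decide +kernel)

namespace Eight

variable (h : Eight ψ g)
include h

omit [Finite G] in
theorem sqC {s : G} (hs : ∀ x ∈ AP.map ψ, Commute s x) : s * s = 1 ∨ s * s = ψ (e 1) := by
  obtain ⟨o, q, x, a, rfl⟩ := h.ex (hs _ ⟨_, memA.1, rfl⟩)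
  obtain ⟨o2, c⟩ := (BD.of (by decide +kernel) : ∀ o q, q * acP o (e 2) * q⁻¹ = e 2 →
    q * acP o (e 4) * q⁻¹ = e 4 → o * o = 1 ∧ ∀ ε, ε = 1 ∨ ε = e 1 →
      q * acP o q * ε = 1 ∨ q * acP o q * ε = e 1) o q
    (h.inj (by rw [← a.act, conj_of_comm (hs _ ⟨_, memA.2.1, rfl⟩)]))
    (h.inj (by rw [← a.act, conj_of_comm (hs _ ⟨_, memA.2.2, rfl⟩)]))
  obtain ⟨ε, e1, e2⟩ := h.R_one' (o2 ▸ a.mul h.toMd a)
  rw [mul_assoc, ← mul_assoc x, a.swap, mul_assoc, e2, ← map_mul, ← map_mul, ← mul_assoc]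
  exact (c ε e1).imp (fun b => by rw [b, map_one]) fun b => by rw [b]

omit [Finite G] h in
theorem cent_conj {s n : G} {I : Subgroup G} (hs : ∀ x ∈ I, Commute s x)
    (hn : n ∈ normalizer (I : Set G)) : ∀ x ∈ I, Commute (n * s * n⁻¹) x := fun x hx => by
  simpa [mul_assoc] using (hs _ ((mem_normalizer_iff''.1 hn x).1 hx)).map (MulAut.conj n)

theorem not_fused (hD : DP ≤ S h.toMd ψ) {s : G} (hs : ∀ x ∈ AP.map ψ, Commute s x)
    (hQ : s ∉ ψ.range) : ¬ IsConj (ψ (e 1)) s := fun c => by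
  obtain ⟨w, rfl⟩ := isConj_iff.1 c
  obtain ⟨n, n1, n2⟩ := h.exists_n
  have key : ∀ k, Mem mA k → T acP ψ (w⁻¹ * ψ k * w) 1 → k = 1 := fun k a b => by
    by_contra k1
    obtain ⟨m, m1, m2⟩ : ∃ m ∈ normalizer (AP.map ψ : Set G), m * ψ (e 1) * m⁻¹ = ψ k := by
      rcases (BD.of (by decide +kernel) : ∀ k : NP, Mem mA k → k ≠ 1 → k = e 1 ∨ ∃ d, Mem mD d ∧ ∃ q,
        q * acP d (e 2) * q⁻¹ = k ∧ ∀ l, Mem mA l → Mem mA (q * acP d l * q⁻¹)) k a k1 with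
        rfl | ⟨d, d1, q, d2, d3⟩
      · exact ⟨1, one_mem _, by simp⟩
      obtain ⟨x, hx⟩ := hD d1
      refine ⟨ψ q * x * n, mul_mem (mem_normalizer_fintype ?_) n1, by rw [← d2, ← hx.act, ← n2]; group⟩
      rintro _ ⟨l, i, rfl⟩
      exact ⟨_, d3 l i, (hx.act q l).symm⟩
    obtain ⟨l, f⟩ := h.sym (g := w⁻¹ * m) (by
      have := h.T_one b
      rwa [← m2, show w⁻¹ * (m * ψ (e 1) * m⁻¹) * w = w⁻¹ * m * ψ (e 1) * (w⁻¹ * m)⁻¹ by group] at this)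
    have f' : ψ l = m⁻¹ * (w * ψ (e 1) * w⁻¹) * m⁻¹⁻¹ := by rw [f]; group
    have i := cent_conj hs (inv_mem m1)
    rw [← f'] at i
    have j := (mem_normalizer_iff.1 m1 _).1 (show ψ l ∈ AP.map ψ from ⟨l, (BD.of (by decide +kernel) :
      ∀ l : NP, Commute l (e 2) → Commute l (e 4) → Mem mA l) l (h.comm_iff.1 (i _ ⟨_, memA.2.1, rfl⟩))
        (h.comm_iff.1 (i _ ⟨_, memA.2.2, rfl⟩)), rfl⟩)
    refine hQ (h.hI.ge ?_).1
    rwa [f', show m * (m⁻¹ * (w * ψ (e 1) * w⁻¹) * m⁻¹⁻¹) * m⁻¹ = w * ψ (e 1) * w⁻¹ by group] at j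
  have ex : ∀ k, Mem mA k → ∃ o, T acP ψ (w⁻¹ * ψ k * w) o := fun k a => h.ex (by
    simpa [mul_assoc] using (hs _ ⟨k, a, rfl⟩).symm.map (MulAut.conj w⁻¹))
  have mu : ∀ {k l o o'}, T acP ψ (w⁻¹ * ψ k * w) o → T acP ψ (w⁻¹ * ψ l * w) o' →
      T acP ψ (w⁻¹ * ψ (k * l) * w) (o * o') := fun a b => by
    simpa [mul_assoc] using a.mul h.toMd b
  obtain ⟨a, ha⟩ := ex _ memA.1
  obtain ⟨b, hb⟩ := ex _ memA.2.1
  obtain ⟨c, hc⟩ := ex _ memA.2.2
  have sq : ∀ {k o}, T acP ψ (w⁻¹ * ψ k * w) o → k * k = 1 → o * o = 1 := fun a b =>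
    h.eq_one (mu a a) (by simp [b])
  have cm : ∀ {k l o o'}, T acP ψ (w⁻¹ * ψ k * w) o → T acP ψ (w⁻¹ * ψ l * w) o' → Commute k l →
      Commute o o' := fun a b c => h.T_uniq (mu a b) (c.eq ▸ mu b a)
  have fin : ∀ {k o}, T acP ψ (w⁻¹ * ψ k * w) o → o = 1 → Mem mA k ∧ k ≠ 1 → False :=
    fun a b c => c.2 (key _ c.1 (b ▸ a))
  rcases (BD.of (by decide +kernel) : ∀ a : OP, a * a = 1 → ∀ b, b * b = 1 → Commute a b → ∀ c,
    c * c = 1 → Commute a c → Commute b c → a = 1 ∨ b = 1 ∨ c = 1 ∨ a * b = 1 ∨ a * c = 1 ∨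
      b * c = 1 ∨ a * b * c = 1) a (sq ha (BD.of (by decide +kernel))) b
    (sq hb (BD.of (by decide +kernel))) (cm ha hb (BD.of (by decide +kernel))) c
    (sq hc (BD.of (by decide +kernel))) (cm ha hc (BD.of (by decide +kernel)))
    (cm hb hc (BD.of (by decide +kernel))) with i | i | i | i | i | i | i
  · exact fin ha i (BD.of (by decide +kernel))
  · exact fin hb i (BD.of (by decide +kernel))
  · exact fin hc i (BD.of (by decide +kernel))
  · exact fin (mu ha hb) i (BD.of (by decide +kernel))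
  · exact fin (mu ha hc) i (BD.of (by decide +kernel))
  · exact fin (mu hb hc) i (BD.of (by decide +kernel))
  · exact fin (mu (mu ha hb) hc) i (BD.of (by decide +kernel))

theorem omega (k : KK K ψ.range (ψ (e 1))) (hD : DP ≤ S h.toMd ψ) (hσ : e 18 ∈ S h.toMd ψ) : False := by
  have d := h.toMd
  obtain ⟨v, l, a, a1, a2, a3, a4, a5⟩ := h.exists_y
  obtain ⟨U, u1, u2, u3⟩ : ∃ U : Subgroup OP, Nat.card U = 18 ∧ U ≤ ΩP ∧
      ∀ o ∈ U, o * o = 1 → o = 1 ∨ ∃ d, Mem mD d ∧ d * o * d⁻¹ = a := by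
    rcases a5 with rfl | rfl
    · exact ⟨CP, CP_card, BD.of (p := ∀ o : OP, Mem mC o → Mem mO o) (by decide +kernel),
        BD.of (p := ∀ o : OP, Mem mC o → _) (by decide +kernel)⟩
    · exact ⟨EP, (card_sub (Mem mE) fun _ => Iff.rfl).trans (by decide +kernel),
        BD.of (p := ∀ o : OP, Mem mE o → Mem mO o) (by decide +kernel),
        BD.of (p := ∀ o : OP, Mem mE o → _) (by decide +kernel)⟩
  have hS : S h.toMd ψ = ΩP := by
    refine le_antisymm (fun o ho => ?_) fun o ho => ?_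
    · obtain ⟨d, b, c⟩ := h.stab hD ho
      exact (BD.of (by decide +kernel) : ∀ o d : OP, Mem mD d → Mem mU (d * o) → Mem mO o) o d b c
    · have := a4.mem h.toMd
      rcases (BD.of (by decide +kernel) : ∀ a : OP, a = e 9 ∨ a = e 27 → ∀ o, Mem mO o → Mem mD o ∨
        Mem mD (o * a) ∨ Mem mD (o * e 18) ∨ Mem mD (o * (a * e 18))) a a5 o ho with b | b | b | b
      exacts [hD b, (mul_mem_cancel_right this).1 (hD b), (mul_mem_cancel_right hσ).1 (hD b),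
        (mul_mem_cancel_right (mul_mem this hσ)).1 (hD b)]
  obtain ⟨x, hx⟩ := hσ
  obtain ⟨q, hq⟩ := (BD.of (by decide +kernel) : ∃ q, ∀ k, Mem mA k → q * acP (e 18) k * q⁻¹ = k)
  have hs : ∀ y ∈ AP.map ψ, Commute (ψ q * x) y := by
    rintro _ ⟨k, b, rfl⟩
    exact comm_of_conj (by rw [hx.act, hq k b])
  have sQ : ψ q * x ∉ ψ.range := fun b =>
    absurd (h.eq_one ⟨q, x, hx, rfl⟩ b) (BD.of (by decide +kernel))
  generalize ψ q * x = s at *
  have s2 : s * s = 1 := (h.sqC hs).resolve_right fun b => by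
    obtain ⟨n, n1, n2⟩ := h.exists_n
    have := h.sqC (cent_conj hs n1)
    rw [show n * s * n⁻¹ * (n * s * n⁻¹) = n * (s * s) * n⁻¹ by group, b, n2, ← map_one ψ, h.eq_iff,
      h.eq_iff] at this
    exact absurd this (BD.of (by decide +kernel))
  have s1 : s ≠ 1 := fun b => sQ (b ▸ one_mem _)
  refine h.not_fused hD hs sQ ?_
  rcases Transfer.thompson_transfer h.odd_index (Q := pre h.toMd ψ U) (by
    rw [h.relIndex_pre, hS, relIndex_of_card u2 u1 (b := 2) ΩP_card]) (orderOf_two s2 s1) with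
    ⟨M, b, c, -⟩ | ⟨w, o, b, c⟩
  · exact absurd c (k.noIdx (topP h.toSt k hD) M b)
  refine IsConj.trans ?_ (isConj_iff.2 ⟨w, rfl⟩).symm
  have w2 := conj_sq (g := w) s2
  have w1 : w * s * w⁻¹ ≠ 1 := by rwa [Ne, conj_eq_one_iff]
  generalize w * s * w⁻¹ = u at *
  have fu := fusedP h.toSt hD h.hg
  rcases u3 o b (h.eq_one (c.mul d c) (w2 ▸ one_mem _)) with rfl | ⟨r, r1, r2⟩
  · obtain ⟨k, rfl⟩ := h.T_one c
    exact fu k (h.inj (by rw [map_mul, w2, map_one])) fun i => w1 (by rw [i, map_one])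
  obtain ⟨y, hy⟩ := hD r1
  obtain ⟨x, hx⟩ := a4.mem h.toMd
  have y2 : g * ψ l * g⁻¹ * (g * ψ l * g⁻¹) = 1 := conj_sq (by rw [← map_mul, a3, map_one])
  have x2 := h.spl a4 y2 (splP a5).1 hx
  have a0 : a ≠ 1 := by rcases a5 with rfl | rfl <;> exact BD.of (by decide +kernel)
  have v2 : v * v = 1 := h.inj (by simpa [← a1, mul_assoc] using conj_sq (g := g⁻¹) h.zz)
  have f1 : ∀ k, k * k = 1 → T acP ψ (g * ψ k * g⁻¹) a → IsConj (ψ (e 1)) (g * ψ k * g⁻¹) :=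
    fun k i j => (fu k i fun m => a0 (h.eq_one j (by simp [m]))).trans (isConj_iff.2 ⟨g, rfl⟩)
  have f2 := f1 (l * v) (by rw [a2.symm.mul_mul_mul_comm, a3, v2, mul_one]) (by
    simpa [← a1, mul_assoc] using a4.mul d (R.z d).toT)
  rw [map_mul, ← conj_mul, a1] at f2
  obtain ⟨k1, i1⟩ := h.conj_inv (splP a5).2 hx x2 a4 y2
  obtain ⟨k2, i2⟩ := h.conj_inv (splP a5).2 hx x2 (u := y * u * y⁻¹)
    (r2 ▸ (hy.toT.mul d c).mul d (hy.inv d).toT) (conj_sq w2)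
  have zc : ∀ k, Commute (ψ k) (ψ (e 1)) := fun k => (d.zc k).map ψ
  have f3 : ∀ t, Eqv (ψ (e 1)) t x → IsConj (ψ (e 1)) t := fun t i => by
    have j := (i.conj (zc k1)).trans h.zz (i1.symm h.zz)
    refine IsConj.trans ?_ (isConj_iff.2 ⟨ψ k1, rfl⟩).symm
    rcases j with j | j <;> rw [j]
    exacts [f1 l a3 a4, f2]
  have := f3 _ (by simpa [mul_assoc] using i2.conj (zc k2).inv_left)
  exact this.trans (isConj_iff.2 ⟨y⁻¹ * ψ k2, by group⟩)

theorem nine (k : KK K ψ.range (ψ (e 1))) (hD : DP ≤ S h.toMd ψ) : Concl K := by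
  by_cases hσ : e 18 ∈ S h.toMd ψ
  · exact (h.omega k hD hσ).elim
  obtain ⟨v, l, a, -, -, a3, a4, a5⟩ := h.exists_y
  have ha := a4.mem h.toMd
  have key : ∀ o ∈ S h.toMd ψ, Mem mD o ∨ Mem mD (o * a) := fun o ho => by
    obtain ⟨d, b, c⟩ := h.stab hD ho
    rcases (BD.of (by decide +kernel) : ∀ a : OP, a = e 9 ∨ a = e 27 → ∀ o d, Mem mD d →
      Mem mU (d * o) → (Mem mD o ∨ Mem mD (o * a)) ∨ d * o = e 18 ∨ d * o * a = e 18) a a5 o d b c
      with i | i | i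
    exacts [i, absurd (i ▸ mul_mem (hD b) ho) hσ, absurd (i ▸ mul_mem (mul_mem (hD b) ho) ha) hσ]
  rcases a5 with rfl | rfl
  · have c : ∀ o : OP, Mem mC o ↔ Mem mD o ∨ Mem mD (o * e 9) := BD.of (by decide +kernel)
    exact h.g23 k hD (le_antisymm (fun o ho => (c o).2 (key o ho)) fun o ho =>
      ((c o).1 ho).elim (@hD _) fun i => (mul_mem_cancel_right ha).1 (hD i))
  · exact (h.ps4 hD (fun o ho => (BD.of (by decide +kernel) : ∀ o : OP,
      Mem mD o ∨ Mem mD (o * e 27) → Mem mE o) o (key o ho)) a4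
      (conj_sq (by rw [← map_mul, a3, map_one]))).elim

end Eight

end Cfsg.Agent.XT
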