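import Cfsg.Agent.XT.Gen
import Cfsg.Agent.XT.Data
import Cfsg.Statements.S1759

/-! The simple normal subgroup and general lemmas on a fused involution of `Q`. -/

set_option autoImplicit false

namespace Cfsg.Agent.XT

open Subgroup Cfsg.Agent.TT Cfsg.Agent.LES Cfsg.Agent.X32 Cfsg.Agent.Comp Cfsg.Agent.X32.TG

/-- the list of groups -/
def Concl (L : Type*) [Group L] : Prop :=
  (∃ (F : Type) (_ : Field F) (_ : Fintype F), Fintype.card F = 9 ∧
      (Nonempty (L ≃* PSU 3 F 3) ∨ Nonempty (L ≃* PSU 4 F 3))) ∨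
    (∃ (F : Type) (_ : Field F) (_ : Fintype F), Fintype.card F = 4 ∧ Nonempty (L ≃* PSU 4 F 2)) ∨
    (∃ (F : Type) (_ : Field F) (_ : Fintype F), Fintype.card F = 3 ∧
      (Nonempty (L ≃* Matrix.ProjectiveSpecialLinearGroup (Fin 4) F) ∨
        Nonempty (L ≃* ↥(Lie.chevG2.group F)))) ∨
    Nonempty (L ≃* ↥(alternatingGroup (Fin 8))) ∨ Nonempty (L ≃* ↥(alternatingGroup (Fin 9))) ∨
    Spor.IsoM12 L ∨ Spor.IsoJ2 L ∨ Spor.IsoJ3 L

theorem Concl.congr {L L' : Type*} [Group L] [Group L'] (e : L' ≃* L) (h : Concl L) : Concl L' := by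
  have t : ∀ {X : Type} [Group X], Nonempty (L ≃* X) → Nonempty (L' ≃* X) := fun ⟨f⟩ => ⟨e.trans f⟩
  rcases h with ⟨F, _, _, a, h⟩ | ⟨F, _, _, a, h⟩ | ⟨F, _, _, a, h⟩ | h | h | h | h | ⟨F, _, _, ω, a, b, h⟩
  · exact .inl ⟨F, _, _, a, h.imp t t⟩
  · exact .inr (.inl ⟨F, _, _, a, t h⟩)
  · exact .inr (.inr (.inl ⟨F, _, _, a, h.imp t t⟩))
  · exact .inr (.inr (.inr (.inl (t h))))
  · exact .inr (.inr (.inr (.inr (.inl (t h)))))
  · exact .inr (.inr (.inr (.inr (.inr (.inl (t h))))))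
  · exact .inr (.inr (.inr (.inr (.inr (.inr (.inl (t h)))))))
  · exact .inr (.inr (.inr (.inr (.inr (.inr (.inr ⟨F, _, _, ω, a, b, t h⟩))))))

variable {G : Type*} [Group G]

/-- a simple normal subgroup supplementing `Q` -/
structure KK (K Q : Subgroup G) (z : G) : Prop where
  nrm : K.Normal
  simple : IsSimpleGroup K
  nab : ¬ IsMulCommutative K
  z_mem : z ∈ K
  comm : ∀ x y : G, x * y * x⁻¹ * y⁻¹ ∈ K
  sup : ∀ g, ∃ q ∈ Q, g * q ∈ K

namespace KK

variable {K Q : Subgroup G} {z : G} (k : KK K Q z)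
include k

theorem top (h : Q ≤ K) : K = ⊤ := eq_top_iff.2 fun g _ =>
  let ⟨_, a, b⟩ := k.sup g; (mul_mem_cancel_right (h a)).1 b

theorem le_of_index {M : Subgroup G} (hM : M.Normal) (h2 : M.index = 2) : K ≤ M := by
  have := k.simple
  rcases (hM.subgroupOf K).eq_bot_or_eq_top with e | e
  · refine absurd ⟨⟨fun a b => ?_⟩⟩ k.nab
    have c : a * b * a⁻¹ * b⁻¹ ∈ M.subgroupOf K := by
      rw [mem_subgroupOf]
      simp only [coe_mul, coe_inv, mul_mem_iff_of_index_two h2, inv_mem_iff]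
      tauto
    rwa [e, mem_bot, mul_inv_eq_one, mul_inv_eq_iff_eq_mul] at c
  · exact subgroupOf_eq_top.1 e

theorem noIdx (h : Q ≤ K) (M : Subgroup G) (hM : M.Normal) : M.index ≠ 2 := fun h2 => by
  have := k.le_of_index hM h2
  rw [k.top h, top_le_iff] at this
  simp [this] at h2

theorem simple_top (h : Q ≤ K) : IsSimpleGroup G :=
  have := k.simple
  ((MulEquiv.subgroupCongr (k.top h)).trans topEquiv).symm.isSimpleGroup

theorem concl (h : Q ≤ K) (c : Concl G) : Concl K :=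
  c.congr ((MulEquiv.subgroupCongr (k.top h)).trans topEquiv)

end KK

theorem ev_mem_of {H : Subgroup G} {l : List G} (hl : ∀ g ∈ l, g ∈ H) (W : List ℕ) :
    BN.ev (tup l) W ∈ H := BN.ev_mem (fun k => by
  rw [tup, List.getD_eq_getElem?_getD]
  cases h : l[k]? with
  | none => exact one_mem _
  | some g => exact hl g (List.mem_of_getElem? h)) W

variable {N O : Type} [Group N] [Group O] {ac : O → N → N} {z0 : N} {ψ : N →* G}

namespace St

variable (h : St ac z0 ψ)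
include h

omit h in
theorem fused {a : O} {x : G} (hx : R ac ψ x a) {q v k : N} (hv : IsConj (ψ z0) (ψ v))
    (c : q * ac a v * q⁻¹ = k) : IsConj (ψ z0) (ψ k) :=
  hv.trans (isConj_iff.2 ⟨ψ q * x, by rw [hx.act, c]⟩)

variable [Finite G]

theorem le_S_of_four {g : G} {v : N} (hg : g * ψ z0 * g⁻¹ = ψ v) (hv : v ≠ z0) [Finite O]
    {V : Subgroup N} {U : Subgroup O} (cV : Nat.card V = 4) (cU : Nat.card U = 4)
    (hI : ∀ k, ψ k ∈ ψ.range.map (MulAut.conj g).toMonoidHom → k ∈ V)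
    (c : ∀ o q, q * ac o v * q⁻¹ = v → (∀ k, Commute k v → q * ac o k * q⁻¹ * k⁻¹ ∈ V) → o ∈ U) :
    U ≤ S h.toMd ψ := by
  have p := h.pair hg hv
  have c1 := card_image_mul p h.θ h.θ_ker
  rw [card_map_conj, h.cardQ] at c1
  generalize ψ.range.map (MulAut.conj g).toMonoidHom = P at *
  have c2 : Nat.card (ψ.range ⊓ P : Subgroup G) ≤ 4 := by
    rw [← cV, ← card_map_of_injective h.inj]
    exact card_le_of_le (by rintro _ ⟨⟨k, rfl⟩, b⟩; exact ⟨k, hI k b, rfl⟩)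
  have le : (P.subgroupOf _).map h.θ ≤ U := by
    rintro _ ⟨y, a, rfl⟩
    obtain ⟨q, x, b, e⟩ := h.θ_T y
    refine c _ q (h.inj (by rw [← b.act, ← e]; exact conj_of_comm (p.hP.z_comm _ a))) fun k d => hI _ ?_
    rw [map_mul, map_inv, ← b.act, ← e]
    exact (comm_mem_E p ⟨k, rfl⟩ (d.map ψ).eq a (mem_cent.1 y.2).eq).2
  have := eq_of_le_of_card_ge le (by
    by_contra! hn
    nlinarith)
  rw [← this, ← h.θ_range]
  exact map_le_range _ _

end St

end Cfsg.Agent.XT
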