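import Cfsg.Agent.XT.Md

/-! The transfer argument, lifting of homomorphisms and involutions outside `Q`. -/

set_option autoImplicit false

namespace Cfsg.Agent.XT

open Subgroup Cfsg.Agent.TT Cfsg.Agent.LES Cfsg.Agent.X32 Cfsg.Agent.PLocal.Amb

variable {G : Type*} [Group G] {N O : Type} [Group N] [Group O]
variable {ac : O → N → N} {z0 : N} {ψ : N →* G}

/-- a homomorphism compatible with the coordinates `qp`, `bar` -/
structure Lf {M : Type} [Group M] (ac : O → N → N) (ψ : N →* G) (φ : M →* G) (qp : M → N)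
    (bar : M → O) : Prop where
  t : ∀ m, T ac ψ (φ m) (bar m)
  q : ∀ m, bar m = 1 → φ m = ψ (qp m)

namespace St

variable (h : St ac z0 ψ)
include h

theorem exists_cube {w : O} (hw : w ∈ S h.toMd ψ) (w3 : w ^ 3 = 1) : ∃ u, u ^ 3 = 1 ∧ R ac ψ u w := by
  obtain ⟨x, hx⟩ := hw
  rcases h.R_one (w3 ▸ hx.pow h.toMd 3) with a | a
  · exact ⟨x, a, hx⟩
  · refine ⟨x * ψ z0, ?_, mul_one w ▸ hx.mul h.toMd (R.z h.toMd)⟩
    rw [(hx.comm h.toMd).mul_pow, a, ← pow_succ', show 3 + 1 = 2 * 2 from rfl, pow_mul, pow_two (ψ z0),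
      h.zz, one_pow]

theorem cube_uniq {u u' : G} {w : O} (hu : R ac ψ u w) (hu' : R ac ψ u' w) (u3 : u ^ 3 = 1)
    (u3' : u' ^ 3 = 1) : u' = u := (h.R_uniq hu hu').resolve_right fun e => h.z1 (by
  rwa [e, (hu.comm h.toMd).mul_pow, u3, one_mul, pow_succ, pow_two, h.zz, one_mul] at u3')

theorem lift {W : Subgroup O} (hW : W ≤ S h.toMd ψ) (W3 : ∀ w ∈ W, w ^ 3 = 1)
    (Wc : ∀ w ∈ W, ∀ w' ∈ W, Commute w w') {y : G} {a : O} (hy : R ac ψ y a) (y2 : y * y = 1)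
    (ha : ∀ w ∈ W, a * w * a⁻¹ ∈ W) (ha' : a ∈ W → y = 1) {M : Type} [Group M] (qp : M → N)
    (bar : M → O) (hb : ∀ m n, bar (m * n) = bar m * bar n ∧ qp (m * n) = qp m * ac (bar m) (qp n))
    (hm : ∀ m, bar m ∈ W ∨ bar m * a ∈ W) : ∃ φ : M →* G, Lf ac ψ φ qp bar := by
  have d := h.toMd
  have yi : y⁻¹ = y := inv_eq_of_mul_eq_one_right y2
  let X0 : Subgroup G :=
    { carrier := {u | u ^ 3 = 1 ∧ ∃ w ∈ W, R ac ψ u w}
      one_mem' := ⟨one_pow _, 1, one_mem _, R.one d⟩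
      inv_mem' := fun ⟨b, w, c, e⟩ => ⟨by rw [inv_pow, b, inv_one], _, inv_mem c, e.inv d⟩
      mul_mem' := fun {u u'} ⟨b, w, c, e⟩ ⟨b', w', c', e'⟩ => ⟨by
        have := (e.mul d e').mul d (e.inv d)
        rw [conj_of_comm (Wc w c w' c')] at this
        rw [(comm_of_conj (h.cube_uniq e' this b' (by rw [conj_pow, b']; simp))).mul_pow, b, b',
          mul_one], _, mul_mem c c', e.mul d e'⟩ }
  have n0 : ∀ u ∈ X0, y * u * y ∈ X0 := fun u ⟨b, w, c, e⟩ => by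
    have : y * u * y⁻¹ ∈ X0 := ⟨by rw [conj_pow, b]; simp, _, ha w c, (hy.mul d e).mul d (hy.inv d)⟩
    rwa [yi] at this
  have yy : ∀ x, y * (y * x) = x := fun x => by rw [← mul_assoc, y2, one_mul]
  let X : Subgroup G :=
    { carrier := {x | x ∈ X0 ∨ x * y ∈ X0}
      one_mem' := Or.inl (one_mem _)
      inv_mem' := fun {x} b => b.imp inv_mem fun b => by
        simpa [yi, mul_assoc, yy] using n0 _ (inv_mem b)
      mul_mem' := fun {x x'} b b' => by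
        rcases b with b | b <;> rcases b' with b' | b'
        · exact Or.inl (mul_mem b b')
        · exact Or.inr (mul_assoc x x' y ▸ mul_mem b b')
        · exact Or.inr (by simpa [mul_assoc, yy] using mul_mem b (n0 _ b'))
        · exact Or.inl (by simpa [mul_assoc, yy, y2] using mul_mem b (n0 _ b')) }
  have z0' : ψ z0 ∉ X0 := fun b => h.z1 (by
    have := b.1
    rwa [pow_succ, pow_two, h.zz, one_mul] at this)
  have zX : ψ z0 ∉ X := by
    rintro (b | b)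
    · exact z0' b
    obtain ⟨-, w, c, e⟩ := id b
    have := h.T_uniq e.toT ((R.z d).mul d hy).toT
    rw [ha' (by rwa [this, one_mul] at c), mul_one] at b
    exact z0' b
  have un : ∀ {x x' o}, x ∈ X → x' ∈ X → R ac ψ x o → R ac ψ x' o → x' = x := fun b b' c c' =>
    (h.R_uniq c c').resolve_right fun e => zX ((mul_mem_cancel_left b).1 (e ▸ b'))
  have a2 : a * a = 1 := h.eq_one (hy.mul d hy).toT (y2 ▸ one_mem _)
  have ex : ∀ m, ∃ x ∈ X, R ac ψ x (bar m) := fun m => by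
    rcases hm m with b | b <;> obtain ⟨u, c, e⟩ := h.exists_cube (hW b) (W3 _ b)
    · exact ⟨u, Or.inl ⟨c, _, b, e⟩, e⟩
    · refine ⟨u * y, Or.inr (by rw [mul_assoc, y2, mul_one]; exact ⟨c, _, b, e⟩), ?_⟩
      simpa [mul_assoc, a2] using e.mul d hy
  choose x hx hx' using ex
  refine ⟨MonoidHom.mk' (fun m => ψ (qp m) * x m) fun m n => ?_, fun m => ⟨_, _, hx' m, rfl⟩,
    fun m e => ?_⟩
  · rw [un (mul_mem (hx m) (hx n)) (hx (m * n)) ((hx' m).mul d (hx' n)) ((hb m n).1 ▸ hx' (m * n)),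
      (hb m n).2, map_mul, ← hx' m]
    group
  · change ψ (qp m) * x m = _
    rw [un (one_mem X) (hx m) (R.one d) (e ▸ hx' m), mul_one]

section
variable {M : Type} [Group M] {φ : M →* G} {qp : M → N} {bar : M → O}

theorem lf_inj (L : Lf ac ψ φ qp bar) (c : ∀ m, bar m = 1 → qp m = 1 → m = 1) :
    Function.Injective φ := (injective_iff_map_eq_one φ).2 fun m e => by
  have a := h.eq_one (L.t m) (e ▸ one_mem _)
  exact c m a (h.inj (by rw [← L.q m a, e, map_one]))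

theorem lf_mem (L : Lf ac ψ φ qp bar) (c : ∀ q, ∃ m, bar m = 1 ∧ qp m = q) {g : G} {m : M}
    (hg : T ac ψ g (bar m)) : g ∈ φ.range := by
  have := (hg.mul h.toMd ((L.t m).inv h.toMd))
  rw [mul_inv_cancel] at this
  obtain ⟨q, e⟩ := h.T_one this
  obtain ⟨n, a, rfl⟩ := c q
  exact ⟨n * m, by rw [map_mul, L.q n a, e]; group⟩

end

theorem spl {y x : G} {a : O} (hy : T ac ψ y a) (y2 : y * y = 1) (c : ∀ q, q * ac a q ≠ z0)
    (hx : R ac ψ x a) : x * x = 1 := by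
  have a2 : a * a = 1 := h.eq_one (hy.mul h.toMd hy) (y2 ▸ one_mem _)
  obtain ⟨q, x', b, rfl⟩ := hy
  have : x' * x' = 1 := (h.R_one (a2 ▸ b.mul h.toMd b)).resolve_right fun e => c q (h.inj (by
    rw [mul_assoc, ← mul_assoc x', b.swap, mul_assoc, e, ← mul_assoc, ← map_mul,
      mul_eq_one_iff_eq_inv, inv_eq_of_mul_eq_one_right h.zz] at y2
    exact y2))
  rcases h.R_uniq b hx with rfl | rfl
  · exact this
  · rw [mul_assoc, ← mul_assoc (ψ z0), ← (b.comm h.toMd).eq, mul_assoc, h.zz, mul_one, this]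

theorem T_eq {x u : G} {a : O} (hx : R ac ψ x a) (hu : T ac ψ u a) : ∃ q, u = ψ q * x := by
  obtain ⟨q, x', b, rfl⟩ := hu
  rcases h.R_uniq hx b with rfl | rfl
  exacts [⟨q, rfl⟩, ⟨q * z0, by rw [map_mul, (hx.comm h.toMd).eq, mul_assoc]⟩]

theorem conj_inv {x u : G} {a : O} (c : ∀ q, q * ac a q = 1 →
    ∃ k, q = k * (ac a k)⁻¹ ∨ q = k * (ac a k)⁻¹ * z0) (hx : R ac ψ x a) (x2 : x * x = 1)
    (hu : T ac ψ u a) (u2 : u * u = 1) : ∃ k, Eqv (ψ z0) u (ψ k * x * (ψ k)⁻¹) := by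
  obtain ⟨q, rfl⟩ := h.T_eq hx hu
  rw [mul_assoc, ← mul_assoc x, hx.swap, mul_assoc, x2, mul_one, ← map_mul,
    map_eq_one_iff _ h.inj] at u2
  obtain ⟨k, e⟩ := c q u2
  have b : ψ k * x * (ψ k)⁻¹ = ψ (k * (ac a k)⁻¹) * x := by
    rw [← map_inv, mul_assoc, hx.swap, h.toMd.ac_inv, map_mul, mul_assoc]
  refine ⟨k, e.imp (fun e => by rw [b, e]) fun e => ?_⟩
  rw [b, e, map_mul, mul_assoc, ← (hx.comm h.toMd).eq, mul_assoc]

variable [Finite G]

theorem not_conj (c4 : ∀ o : O, o ^ 8 = 1 → o ^ 4 = 1) {y e : G} (ye : Commute e y)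
    (e4 : e ^ 4 = ψ z0) (hy : y ∉ ψ.range) : ¬ IsConj (ψ z0) y := fun c => by
  obtain ⟨w, rfl⟩ := isConj_iff.1 c
  obtain ⟨o, b⟩ := h.ex (x := w⁻¹ * e * w) (by simpa [mul_assoc] using ye.map (MulAut.conj w⁻¹))
  have p : ∀ n, (w⁻¹ * e * w) ^ n = w⁻¹ * e ^ n * w := fun n => by simpa using conj_pow (a := w⁻¹)
  have b4 := b.pow h.toMd 4
  rw [c4 o (h.eq_one (b.pow h.toMd 8) (by
    rw [p, show 8 = 4 * 2 from rfl, pow_mul, e4, pow_two, h.zz]; simp)), p, e4] at b4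
  have := h.sym (g := w⁻¹) (by simpa using h.T_one b4)
  exact hy (by simpa using this)

theorem tr (hG : ∀ M : Subgroup G, M.Normal → M.index ≠ 2) (U : Subgroup O)
    (hU : U.relIndex (S h.toMd ψ) = 2) {r r' : O} (hr : r ∈ S h.toMd ψ) (hr' : r' ∈ S h.toMd ψ)
    (c1 : r * r = 1 ∧ r' * r' = 1 ∧ Commute r r' ∧ r ≠ 1)
    (c2 : ∀ ε, ε = 1 ∨ ε = z0 → ∀ δ, δ = 1 ∨ δ = z0 → ∃ p q, p * ac r p * ε = 1 ∧
      (q * ac r' q) ^ 2 = z0 ∧ p * ac r q * δ = q * ac r' p)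
    (c3 : ∀ o ∈ U, o * o = 1 → o ≠ 1 → (∀ o', Commute o' o → o' ^ 8 = 1 → o' * o' = 1 ∨ o' * o' = o) ∧
      ∀ q, (q * ac o q = 1 ∨ q * ac o q = z0) → ∀ k, q * ac o k * q⁻¹ = k → k * k = 1)
    (c4 : ∀ o : O, o ^ 8 = 1 → o ^ 4 = 1)
    (c5 : ∀ k, k * k = 1 → k ≠ 1 → IsConj (ψ z0) (ψ k)) : False := by
  have d := h.toMd
  obtain ⟨x, hx⟩ := hr
  obtain ⟨x', hx'⟩ := hr'
  obtain ⟨ε, e1, e2⟩ := h.R_one' (c1.1 ▸ hx.mul d hx)
  obtain ⟨ε', e3, e4⟩ := h.R_one' (c1.2.1 ▸ hx'.mul d hx')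
  obtain ⟨δ, e5, e6⟩ := h.R_one' (x := x * x' * x⁻¹ * x'⁻¹) (by
    have := ((hx.mul d hx').mul d (hx.inv d)).mul d (hx'.inv d)
    rwa [conj_of_comm c1.2.2.1, mul_inv_cancel] at this)
  obtain ⟨p, q, f1, f2, f3⟩ := c2 ε e1 δ e5
  have y2 : ψ p * x * (ψ p * x) = 1 := by
    rw [mul_assoc, ← mul_assoc x, hx.swap, mul_assoc, e2, ← map_mul, ← map_mul, ← mul_assoc, f1, map_one]
  have g4 : (ψ q * x') ^ 4 = ψ z0 := by
    rw [show 4 = 2 * 2 from rfl, pow_mul, pow_two (ψ q * x'), mul_assoc, ← mul_assoc x', hx'.swap,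
      mul_assoc, e4, ← map_mul, ← map_mul, ← map_pow, ← mul_assoc]
    rcases e3 with rfl | rfl
    · rw [mul_one, f2]
    · rw [(d.zc _).mul_pow, f2, pow_two, d.xs.z_sq, mul_one]
  have ye : Commute (ψ q * x') (ψ p * x) := by
    change _ = _
    rw [mul_assoc, ← mul_assoc x', hx'.swap, mul_assoc (ψ p), ← mul_assoc x, hx.swap, mul_assoc,
      mul_assoc, show x * x' = ψ δ * (x' * x) by rw [← e6]; group]
    simp only [← mul_assoc, ← map_mul, f3]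
  have nc := h.not_conj c4 ye g4 fun a => c1.2.2.2 (h.eq_one ⟨p, x, hx, rfl⟩ a)
  have y1 : ψ p * x ≠ 1 := fun a => c1.2.2.2 (h.eq_one ⟨p, x, hx, rfl⟩ (a ▸ one_mem _))
  generalize ψ p * x = y at *
  generalize ψ q * x' = e at *
  have e8 : e ^ 8 = 1 := by rw [show 8 = 4 * 2 from rfl, pow_mul, g4, pow_two, h.zz]
  rcases Transfer.thompson_transfer_extremal h.odd_index (h.pre_le U) ((h.relIndex_pre U).trans hU)
    (u := y) (by rw [pow_two, y2]) (T := zpowers e) (by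
      rintro ⟨_, n, rfl⟩
      refine ⟨3, Subtype.ext ?_⟩
      change (e ^ n) ^ 8 = 1
      rw [← zpow_natCast, ← zpow_mul, mul_comm, zpow_mul, zpow_natCast, e8, one_zpow])
    (by rintro _ ⟨n, rfl⟩; exact (ye.zpow_left n).eq) with ⟨M, a, b, -⟩ | ⟨g, ⟨o, a, b⟩, c⟩
  · exact hG M a b
  have u2 := conj_sq (g := g) y2
  have o2 : o * o = 1 := h.eq_one (b.mul d b) (u2 ▸ one_mem _)
  by_cases o1 : o = 1
  · obtain ⟨k, e⟩ := h.T_one (o1 ▸ b)
    refine nc ((c5 k (h.inj (by rw [map_mul, e, u2, map_one])) fun a => y1 ?_).trans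
      (e ▸ (isConj_iff.2 ⟨g, rfl⟩).symm))
    rwa [a, map_one, eq_comm, conj_eq_one_iff] at e
  obtain ⟨o', b'⟩ := h.ex (mem_cent.1 (c (conj_mem_cj g (mem_zpowers e))))
  have fu : Commute (g * e * g⁻¹) (g * y * g⁻¹) := ye.map (MulAut.conj g)
  have f8 : (g * e * g⁻¹) ^ 8 = 1 := by rw [conj_pow, e8]; simp
  have f4 : (g * e * g⁻¹) ^ 4 ≠ 1 := by rw [conj_pow, g4, Ne, conj_eq_one_iff]; exact h.z1
  generalize g * y * g⁻¹ = u at *
  generalize g * e * g⁻¹ = f at *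
  obtain ⟨k1, k2⟩ := c3 o a o2 o1
  have key : ∀ w, T ac ψ w 1 → Commute w u → w * w = 1 := fun w a c => by
    obtain ⟨k, rfl⟩ := h.T_one a
    obtain ⟨q, x, b, rfl⟩ := b
    obtain ⟨ε, e1, e2⟩ := h.R_one' (o2 ▸ b.mul d b)
    rw [mul_assoc, ← mul_assoc x, b.swap, mul_assoc, e2, ← map_mul, ← map_mul,
      map_eq_one_iff _ h.inj, ← mul_assoc] at u2
    rw [← map_mul, k2 q (e1.imp (fun e => by simpa [e] using u2) fun e => by
      rw [e, mul_eq_one_iff_eq_inv, d.xs.z_inv] at u2; exact u2) k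
      (h.inj (by rw [← b.act, conj_of_comm c.symm])), map_one]
  rcases k1 o' (h.T_uniq (b'.mul d b) (fu.eq ▸ b.mul d b'))
    (h.eq_one (b'.pow d 8) (f8 ▸ one_mem _)) with i | i
  · exact f4 (by simpa [pow_succ, mul_assoc] using key _ (i ▸ b'.mul d b') (fu.mul_left fu))
  · have := key (f * f * u) (by simpa [i, o2] using (b'.mul d b').mul d b)
      ((fu.mul_left fu).mul_left (Commute.refl u))
    rw [mul_assoc, ← mul_assoc u, (fu.mul_left fu).symm.eq, mul_assoc, mul_assoc, u2, mul_one] at this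
    exact f4 (by simpa [pow_succ, mul_assoc] using this)

theorem exists_inv (c : ∀ v, v * v = 1 → v ≠ 1 → v ≠ z0 → ∃ k l, Commute k v ∧ Commute l v ∧
    k * k = 1 ∧ l * l = 1 ∧ ¬ Commute k l) {g : G} {v : N} (hg : g * ψ z0 * g⁻¹ = ψ v) (hv : v ≠ z0) :
    ∃ v' k, g * ψ v' * g⁻¹ = ψ z0 ∧ Commute k v' ∧ k * k = 1 ∧ g * ψ k * g⁻¹ ∉ ψ.range := by
  have p := h.pair hg hv
  obtain ⟨_, ⟨v', rfl⟩, b⟩ := p.z_mem
  change g * ψ v' * g⁻¹ = _ at b
  obtain ⟨k, l, a1, a2, a3, a4, a5⟩ := c v' (h.inj (by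
      have := conj_sq (g := g⁻¹) h.zz
      simpa [← b, mul_assoc] using this))
    (fun e => h.z1 (by simpa [e] using b.symm)) fun e => hv (h.inj (by rw [← hg, ← e, b, e]))
  by_contra! hn
  have := E_comm p ⟨hn v' k b a1 a3, _, ⟨k, rfl⟩, rfl⟩ ⟨hn v' l b a2 a4, _, ⟨l, rfl⟩, rfl⟩
  exact a5 (h.comm_iff.1 (by simpa [mul_assoc] using Commute.map this (MulAut.conj g⁻¹)))

end St

end Cfsg.Agent.XT
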