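import Cfsg.Agent.LES.HJCent
import Cfsg.Agent.TT.O2C
import Cfsg.Agent.X32.Gen
import Cfsg.Agent.Transfer.ThompsonExtremal

/-! A large extraspecial subgroup of order 32 given by a model with its outer automorphisms. -/

set_option autoImplicit false

namespace Cfsg.Agent.XT

open Subgroup Cfsg.Agent.TT Cfsg.Agent.LES Cfsg.Agent.X32

variable {G : Type*} [Group G] {N O : Type} [Group N] [Group O]

/-- an extraspecial group with a complement to the inner automorphisms -/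
structure Md (ac : O → N → N) (z0 : N) : Prop where
  mul_l : ∀ a b k, ac (a * b) k = ac a (ac b k)
  mul_r : ∀ a k l, ac a (k * l) = ac a k * ac a l
  one : ∀ k, ac 1 k = k
  fz : ∀ a, ac a z0 = z0
  xs : XS ⊤ z0
  card : Nat.card N = 32
  enum : ∀ α : N →* N, α z0 = z0 → ∃ q a, ∀ k, α k = q * ac a k * q⁻¹
  faith : ∀ q a, (∀ k, ac a k = q * k * q⁻¹) → a = 1

/-- the model is embedded as a large extraspecial subgroup -/
structure St (ac : O → N → N) (z0 : N) (ψ : N →* G) : Prop extends Md ac z0 where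
  inj : Function.Injective ψ
  lx : LX ψ.range (ψ z0)
  o2 : O2C (ψ z0) ≤ ψ.range

/-- `x` acts as `a` -/
def R (ac : O → N → N) (ψ : N →* G) (x : G) (a : O) : Prop := ∀ k, x * ψ k * x⁻¹ = ψ (ac a k)

/-- `h` lies over `a` -/
def T (ac : O → N → N) (ψ : N →* G) (h : G) (a : O) : Prop := ∃ q x, R ac ψ x a ∧ h = ψ q * x

variable {ac : O → N → N} {z0 : N} {ψ : N →* G}

namespace Md

/-- the automorphism with given inner and outer part -/
def β (h : Md ac z0) (q : N) (a : O) : N →* N :=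
  MonoidHom.mk' (fun k => q * ac a k * q⁻¹) fun k l => by rw [h.mul_r]; group

theorem β_apply (h : Md ac z0) (q : N) (a : O) (k : N) : h.β q a k = q * ac a k * q⁻¹ := rfl

theorem zc (h : Md ac z0) (k : N) : Commute k z0 := h.xs.z_comm k trivial

theorem β_z (h : Md ac z0) (q : N) (a : O) : h.β q a z0 = z0 := by
  rw [β_apply, h.fz, conj_of_comm (h.zc q)]

theorem ac_one (h : Md ac z0) (a : O) : ac a 1 = 1 := by simpa [β_apply] using map_one (h.β 1 a)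

theorem ac_inv (h : Md ac z0) (a : O) (k : N) : ac a k⁻¹ = (ac a k)⁻¹ := by
  simpa [β_apply] using map_inv (h.β 1 a) k

theorem ac_ac (h : Md ac z0) (a : O) (k : N) : ac a (ac a⁻¹ k) = k := by
  rw [← h.mul_l, mul_inv_cancel, h.one]

theorem β_surj (h : Md ac z0) (q : N) (a : O) : Function.Surjective (h.β q a) := fun k =>
  ⟨ac a⁻¹ (q⁻¹ * k * q), by rw [β_apply, h.ac_ac]; group⟩

theorem finite (h : Md ac z0) : Finite N := Nat.finite_of_card_ne_zero (by rw [h.card]; decide)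

end Md

theorem R.mul (h : Md ac z0) {x y : G} {a b : O} (hx : R ac ψ x a) (hy : R ac ψ y b) :
    R ac ψ (x * y) (a * b) := fun k => by rw [h.mul_l, ← hx, ← hy]; group

theorem R.inv (h : Md ac z0) {x : G} {a : O} (hx : R ac ψ x a) : R ac ψ x⁻¹ a⁻¹ := fun k => by
  conv_lhs => rw [← h.ac_ac a k, ← hx]
  group

theorem R.one (h : Md ac z0) : R ac ψ 1 1 := fun k => by rw [h.one]; group

theorem R.pow (h : Md ac z0) {x : G} {a : O} (hx : R ac ψ x a) (n : ℕ) : R ac ψ (x ^ n) (a ^ n) := by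
  induction n with
  | zero => simpa using R.one h
  | succ n ih => rw [pow_succ, pow_succ]; exact ih.mul h hx

theorem R.comm (h : Md ac z0) {x : G} {a : O} (hx : R ac ψ x a) : Commute x (ψ z0) :=
  comm_of_conj (by rw [hx, h.fz])

theorem R.z (h : Md ac z0) : R ac ψ (ψ z0) 1 := fun k => by
  rw [h.one, conj_of_comm ((h.zc k).map ψ).symm]

theorem R.act {x : G} {a : O} (hx : R ac ψ x a) (q k : N) :
    ψ q * x * ψ k * (ψ q * x)⁻¹ = ψ (q * ac a k * q⁻¹) := by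
  rw [map_mul, map_mul, map_inv, ← hx]; group

theorem R.swap {x : G} {a : O} (hx : R ac ψ x a) (k : N) : x * ψ k = ψ (ac a k) * x := by
  rw [← hx]; group

theorem R.toT {x : G} {a : O} (hx : R ac ψ x a) : T ac ψ x a := ⟨1, x, hx, by simp⟩

theorem T.mul (h : Md ac z0) {x y : G} {a b : O} (hx : T ac ψ x a) (hy : T ac ψ y b) :
    T ac ψ (x * y) (a * b) := by
  obtain ⟨q, x, c, rfl⟩ := hx
  obtain ⟨r, y, d, rfl⟩ := hy
  exact ⟨q * ac a r, _, c.mul h d, by rw [map_mul, ← c]; group⟩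

theorem T.inv (h : Md ac z0) {x : G} {a : O} (hx : T ac ψ x a) : T ac ψ x⁻¹ a⁻¹ := by
  obtain ⟨q, x, c, rfl⟩ := hx
  exact ⟨ac a⁻¹ q⁻¹, _, c.inv h, by rw [← c.inv h, map_inv]; group⟩

theorem T.of_mem (h : Md ac z0) {x : G} (hx : x ∈ ψ.range) : T ac ψ x 1 := by
  obtain ⟨q, rfl⟩ := hx
  exact ⟨q, 1, R.one h, by simp⟩

theorem T.pow (h : Md ac z0) {x : G} {a : O} (hx : T ac ψ x a) (n : ℕ) : T ac ψ (x ^ n) (a ^ n) := by
  induction n with
  | zero => simpa using (R.one h).toT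
  | succ n ih => rw [pow_succ, pow_succ]; exact ih.mul h hx

theorem T.comm (h : Md ac z0) {x : G} {a : O} (hx : T ac ψ x a) : Commute x (ψ z0) := by
  obtain ⟨q, x, c, rfl⟩ := hx
  exact ((h.zc q).map ψ).mul_left (c.comm h)

/-- the image of the centraliser in the outer automorphism group -/
def S (h : Md ac z0) (ψ : N →* G) : Subgroup O where
  carrier := {a | ∃ x, R ac ψ x a}
  one_mem' := ⟨1, R.one h⟩
  mul_mem' := fun ⟨_, a⟩ ⟨_, b⟩ => ⟨_, a.mul h b⟩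
  inv_mem' := fun ⟨_, a⟩ => ⟨_, a.inv h⟩

/-- the preimage of a subgroup -/
def pre (h : Md ac z0) (ψ : N →* G) (U : Subgroup O) : Subgroup G where
  carrier := {x | ∃ a ∈ U, T ac ψ x a}
  one_mem' := ⟨1, one_mem _, (R.one h).toT⟩
  mul_mem' := fun ⟨_, a, c⟩ ⟨_, b, d⟩ => ⟨_, mul_mem a b, c.mul h d⟩
  inv_mem' := fun ⟨_, a, c⟩ => ⟨_, inv_mem a, c.inv h⟩

theorem T.mem (h : Md ac z0) {x : G} {a : O} (hx : T ac ψ x a) : a ∈ S h ψ :=
  let ⟨_, y, c, _⟩ := hx; ⟨y, c⟩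

namespace St

variable (h : St ac z0 ψ)
include h

theorem zz : ψ z0 * ψ z0 = 1 := h.lx.z_sq

theorem z1 : ψ z0 ≠ 1 := h.lx.z_ne

theorem cardQ : Nat.card ψ.range = 32 := by
  rw [← Nat.card_congr (MonoidHom.ofInjective h.inj).toEquiv, h.card]

theorem eq_iff {a b : N} : ψ a = ψ b ↔ a = b := h.inj.eq_iff

theorem comm_iff {a b : N} : Commute (ψ a) (ψ b) ↔ Commute a b :=
  ⟨fun e => h.inj (by simpa using e.eq), fun e => e.map ψ⟩

theorem R_one {x : G} (hx : R ac ψ x 1) : x = 1 ∨ x = ψ z0 :=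
  h.lx.eq_of_comm (by
    rintro _ ⟨k, rfl⟩
    exact (comm_of_conj (by rw [hx, h.one])).symm)

theorem R_one' {x : G} (hx : R ac ψ x 1) : ∃ ε, (ε = 1 ∨ ε = z0) ∧ x = ψ ε := by
  rcases h.R_one hx with a | a
  exacts [⟨1, Or.inl rfl, by simp [a]⟩, ⟨z0, Or.inr rfl, a⟩]

theorem R_uniq {x y : G} {a : O} (hx : R ac ψ x a) (hy : R ac ψ y a) : y = x ∨ y = x * ψ z0 := by
  have := (hx.inv h.toMd).mul h.toMd hy
  rw [inv_mul_cancel] at this
  exact (h.R_one this).imp (fun e => (inv_mul_eq_one.1 e).symm) inv_mul_eq_iff_eq_mul.1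

theorem T_one {x : G} (hx : T ac ψ x 1) : x ∈ ψ.range := by
  obtain ⟨q, x, c, rfl⟩ := hx
  obtain ⟨ε, -, rfl⟩ := h.R_one' c
  exact ⟨q * ε, map_mul _ _ _⟩

theorem eq_one {x : G} {a : O} (hx : T ac ψ x a) (hQ : x ∈ ψ.range) : a = 1 := by
  obtain ⟨q, x, c, rfl⟩ := hx
  obtain ⟨r, rfl⟩ := (mul_mem_cancel_left (show ψ q ∈ ψ.range from ⟨q, rfl⟩)).1 hQ
  exact h.faith r a fun k => h.inj (by rw [← c]; simp)

theorem T_uniq {x : G} {a b : O} (ha : T ac ψ x a) (hb : T ac ψ x b) : a = b := by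
  have := h.eq_one ((ha.inv h.toMd).mul h.toMd hb) (by simp)
  exact inv_mul_eq_one.1 this

theorem ex {x : G} (hx : Commute x (ψ z0)) : ∃ a, T ac ψ x a := by
  have : ∀ k, ∃ k', ψ k' = x * ψ k * x⁻¹ := fun k => h.lx.norm x hx _ ⟨k, rfl⟩
  choose f hf using this
  obtain ⟨q, a, e⟩ := h.enum (MonoidHom.mk' f fun k l => h.inj (by
    rw [map_mul, hf, hf, hf, map_mul]; group)) (h.inj (by
      change ψ (f z0) = _
      rw [hf, conj_of_comm hx]))
  refine ⟨a, q, (ψ q)⁻¹ * x, fun k => ?_, by group⟩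
  have : ψ (f k) = ψ (q * ac a k * q⁻¹) := congrArg ψ (e k)
  rw [hf, map_mul, map_mul, map_inv] at this
  rw [show (ψ q)⁻¹ * x * ψ k * ((ψ q)⁻¹ * x)⁻¹ = (ψ q)⁻¹ * (x * ψ k * x⁻¹) * ψ q by group, this]
  group

/-- the action of the centraliser -/
noncomputable def θ : centralizer ({ψ z0} : Set G) →* O :=
  MonoidHom.mk' (fun x => (h.ex (mem_cent.1 x.2)).choose) fun x y =>
    h.T_uniq (h.ex (mem_cent.1 (x * y).2)).choose_spec
      ((h.ex (mem_cent.1 x.2)).choose_spec.mul h.toMd (h.ex (mem_cent.1 y.2)).choose_spec)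

theorem θ_T (x : centralizer ({ψ z0} : Set G)) : T ac ψ x (h.θ x) :=
  (h.ex (mem_cent.1 x.2)).choose_spec

theorem θ_ker (x : centralizer ({ψ z0} : Set G)) : h.θ x = 1 ↔ (x : G) ∈ ψ.range :=
  ⟨fun e => h.T_one (e ▸ h.θ_T x), h.eq_one (h.θ_T x)⟩

theorem θ_range : h.θ.range = S h.toMd ψ := by
  ext a
  refine ⟨by rintro ⟨x, rfl⟩; exact (h.θ_T x).mem _, fun ⟨x, c⟩ => ?_⟩
  exact ⟨⟨x, mem_cent.2 (c.comm h.toMd)⟩, h.T_uniq (h.θ_T _) c.toT⟩

theorem card_C : Nat.card (centralizer ({ψ z0} : Set G)) = Nat.card (S h.toMd ψ) * 32 := by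
  rw [← card_range_mul h.lx h.θ_ker, h.θ_range, h.cardQ]

theorem relIndex_pre (U : Subgroup O) :
    (pre h.toMd ψ U).relIndex (centralizer {ψ z0}) = U.relIndex (S h.toMd ψ) := by
  rw [← h.θ_range, ← index_comap, relIndex]
  congr 1
  ext x
  exact ⟨fun ⟨a, b, c⟩ => (h.T_uniq c (h.θ_T x) ▸ b : h.θ x ∈ U), fun b => ⟨_, b, h.θ_T x⟩⟩

theorem pre_le (U : Subgroup O) : pre h.toMd ψ U ≤ centralizer {ψ z0} := fun _ ⟨_, _, c⟩ =>
  mem_cent.2 (c.comm h.toMd)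

theorem comp (β : N →* N) (hβ : β z0 = z0) : St ac z0 (ψ.comp β) ∧ (ψ.comp β).range = ψ.range := by
  obtain ⟨q, a, e⟩ := h.enum β hβ
  have s : Function.Surjective β := fun k => by
    obtain ⟨k, rfl⟩ := h.toMd.β_surj q a k
    exact ⟨k, e k⟩
  have := h.toMd.finite
  have r : (ψ.comp β).range = ψ.range := by
    rw [MonoidHom.range_comp, MonoidHom.range_eq_top.2 s, ← MonoidHom.range_eq_map]
  refine ⟨⟨h.toMd, h.inj.comp (Finite.injective_iff_surjective.2 s), ?_, ?_⟩, r⟩ <;>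
    rw [r, MonoidHom.comp_apply, hβ]
  exacts [h.lx, h.o2]

omit h in
theorem mem_S_comp (h : Md ac z0) (a b : O) :
    b ∈ S h (ψ.comp (h.β 1 a)) ↔ a * b * a⁻¹ ∈ S h ψ := by
  refine exists_congr fun x => ⟨fun c k => ?_, fun c k => ?_⟩
  · have := c (ac a⁻¹ k)
    simp only [MonoidHom.comp_apply, Md.β_apply, one_mul, inv_one, mul_one, h.ac_ac] at this
    rw [this, h.mul_l, h.mul_l]
  · simp only [MonoidHom.comp_apply, Md.β_apply, one_mul, inv_one, mul_one]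
    rw [c, ← h.mul_l, ← h.mul_l, inv_mul_cancel_right]

theorem nc {a : O} (ha : a ∈ S h.toMd ψ) (a2 : a * a = 1)
    (hc : ∀ b ∈ S h.toMd ψ, Commute a (b * a * b⁻¹)) : a = 1 := by
  let C : Set O := {c | ∃ b ∈ S h.toMd ψ, c = b * a * b⁻¹}
  have c1 : ∀ c ∈ C, ∀ d ∈ C, Commute c d := by
    rintro _ ⟨b, hb, rfl⟩ _ ⟨d, hd, rfl⟩
    simpa [mul_assoc] using (hc _ (mul_mem (inv_mem hb) hd)).map (MulAut.conj b)
  have c2 : ∀ c ∈ closure C, c * c = 1 ∧ ∀ d ∈ C, Commute c d := fun c hc => by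
    induction hc using closure_induction_left with
    | one => exact ⟨mul_one _, fun d _ => Commute.one_left d⟩
    | mul_left x hx y _ ih =>
      refine ⟨?_, fun d hd => (c1 x hx d hd).mul_left (ih.2 d hd)⟩
      obtain ⟨b, -, e⟩ := id hx
      rw [mul_assoc, ← mul_assoc y, (ih.2 x hx).eq, mul_assoc, ih.1, mul_one, e, conj_sq a2]
    | inv_mul_cancel x hx y _ ih =>
      refine ⟨?_, fun d hd => (c1 x hx d hd).inv_left.mul_left (ih.2 d hd)⟩
      obtain ⟨b, -, e⟩ := id hx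
      rw [mul_assoc, ← mul_assoc y, (ih.2 x hx).inv_right.eq, mul_assoc, ih.1, mul_one,
        ← mul_inv_rev, e, conj_sq a2, inv_one]
  have c3 : ∀ b ∈ S h.toMd ψ, ∀ c ∈ closure C, b * c * b⁻¹ ∈ closure C := fun b hb c hc =>
    (closure_le ((closure C).comap (MulAut.conj b).toMonoidHom)).2 (by
      rintro _ ⟨d, hd, rfl⟩
      exact subset_closure ⟨b * d, mul_mem hb hd, by simp [mul_assoc]⟩) hc
  obtain ⟨x, hx⟩ := ha
  refine h.eq_one hx.toT (h.o2 (le_O2C (D := pre h.toMd ψ (closure C)) ?_ ?_ ?_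
    ⟨a, subset_closure ⟨1, one_mem _, by simp⟩, hx.toT⟩))
  · rintro ⟨y, c, hc, d⟩
    refine ⟨3, Subtype.ext ?_⟩
    have := h.lx.toXS.pow_four (h.T_one ((c2 c hc).1 ▸ d.mul h.toMd d))
    rwa [← pow_two, ← pow_mul] at this
  · exact fun y hy => mem_cent.1 (h.pre_le _ hy)
  · rintro c hc y ⟨d, hd, e⟩
    obtain ⟨b, f⟩ := h.ex hc
    exact ⟨_, c3 b (f.mem _) d hd, (f.mul h.toMd e).mul h.toMd (f.inv h.toMd)⟩

theorem le_of_fpf {K : Subgroup G} (hz : ψ z0 ∈ K) (hK : ∀ x y : G, x * y * x⁻¹ * y⁻¹ ∈ K) {a : O}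
    (ha : a ∈ S h.toMd ψ) (c : ∀ k, ∃ l, k = ac a l * l⁻¹ ∨ k = ac a l * l⁻¹ * z0) : ψ.range ≤ K := by
  rintro _ ⟨k, rfl⟩
  obtain ⟨x, hx⟩ := ha
  obtain ⟨l, rfl | rfl⟩ := c k <;> simp only [map_mul, map_inv, ← hx l]
  exacts [hK _ _, mul_mem (hK _ _) hz]

variable [Finite G]

theorem sym {g : G} (hg : g * ψ z0 * g⁻¹ ∈ ψ.range) : g⁻¹ * ψ z0 * g ∈ ψ.range := by
  obtain ⟨x, a, b⟩ := h.lx.mem_map_conj_of_card (by rw [h.cardQ]; decide) hg
  have : g⁻¹ * ψ z0 * g = x := by rw [← b]; simp [mul_assoc]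
  exact this ▸ a

theorem odd_index : Odd (centralizer ({ψ z0} : Set G)).index := by
  have : Fact (Nat.Prime 2) := ⟨Nat.prime_two⟩
  obtain ⟨P, hP⟩ := h.lx.toXS.isPGroup.exists_le_sylow
  exact Odd.of_dvd_nat (Transfer.odd_index_sylow P) (index_dvd_of_le fun x hx =>
    mem_centralizer_singleton_iff.2 (h.lx.comm_of_two_subgroup P.isPGroup' hP x hx))

theorem pair {g : G} {v : N} (hg : g * ψ z0 * g⁻¹ = ψ v) (hv : v ≠ z0) :
    LXPair ψ.range (ψ.range.map (MulAut.conj g).toMonoidHom) (ψ z0) (ψ v) :=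
  hg ▸ h.lx.pair ⟨v, hg.symm⟩ (by rwa [hg, Ne, h.eq_iff])
    (h.lx.mem_map_conj_of_card (by rw [h.cardQ]; decide) ⟨v, hg.symm⟩)

end St

end Cfsg.Agent.XT
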