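import Cfsg.Agent.XT.Base
import Cfsg.Agent.U43.Main
import Cfsg.Agent.G23.Main

/-! Plus type: the subgroup `SL₂(3) ∘ SL₂(3)`, and the groups `U₄(3)` and `G₂(3)`. -/

set_option autoImplicit false
set_option maxRecDepth 100000
set_option synthInstance.maxHeartbeats 400000
set_option synthInstance.maxSize 4000

namespace Cfsg.Agent.XT

open Subgroup Cfsg.Agent.TT Cfsg.Agent.LES Cfsg.Agent.X32 Cfsg.Agent.Comp Cfsg.Agent.X32.TG
open Cfsg.Agent.PS4 (t16)
open Cfsg.Agent.U43 (K0 Q0)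

section
variable {T T' : Tab} [Fact T'.OK]

/-- the first coordinate in a semidirect product -/
noncomputable def lo (tab : ℕ) (k : TG T) : TG T' := e (t16 tab (Nat.land k.v (nat_lit 31)))

/-- the second coordinate in a semidirect product -/
noncomputable def hi (tab : ℕ) (k : TG T) : TG T' := e (t16 tab (Nat.shiftRight k.v (nat_lit 5)))

instance evLo (tab : ℕ) (k : TG T) {m : ℕ} [EV k m] :
    EV (lo tab k : TG T') (Nat.mod (t16 tab (Nat.land m (nat_lit 31))) T'.n) :=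
  ⟨by rw [← EV.h (a := k)]; rfl⟩

instance evHi (tab : ℕ) (k : TG T) {m : ℕ} [EV k m] :
    EV (hi tab k : TG T') (Nat.mod (t16 tab (Nat.shiftRight m (nat_lit 5))) T'.n) :=
  ⟨by rw [← EV.h (a := k)]; rfl⟩

end

noncomputable def tId : ℕ := nat_lit 0x1f001e001d001c001b001a0019001800170016001500140013001200110010000f000e000d000c000b000a0009000800070006000500040003000200010000

noncomputable def mD : ℕ := nat_lit 0x1ff

noncomputable def mO : ℕ := nat_lit 0xfffffffff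

noncomputable def mU : ℕ := nat_lit 0x8040201

noncomputable def mV : ℕ := nat_lit 0x47

noncomputable def mC : ℕ := nat_lit 0x3ffff

noncomputable def DP : Subgroup OP := sub mD (BD.of (by decide +kernel))

noncomputable def ΩP : Subgroup OP := sub mO (BD.of (by decide +kernel))

noncomputable def UP : Subgroup OP := sub mU (BD.of (by decide +kernel))

noncomputable def CP : Subgroup OP := sub mC (BD.of (by decide +kernel))

noncomputable def VP : Subgroup NP := sub mV (BD.of (by decide +kernel))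

theorem DP_card : Nat.card DP = 9 := (card_sub (Mem mD) fun _ => Iff.rfl).trans (by decide +kernel)

theorem ΩP_card : Nat.card ΩP = 36 := (card_sub (Mem mO) fun _ => Iff.rfl).trans (by decide +kernel)

theorem CP_card : Nat.card CP = 18 := (card_sub (Mem mC) fun _ => Iff.rfl).trans (by decide +kernel)

theorem VP_card : Nat.card VP = 4 := (card_sub (Mem mV) fun _ => Iff.rfl).trans (by decide +kernel)

theorem D3 : (∀ w : OP, Mem mD w → w ^ 3 = 1) ∧ (∀ w : OP, Mem mD w → ∀ w', Mem mD w' → Commute w w') ∧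
    ∀ a w : OP, Mem mD w → Mem mD (a * w * a⁻¹) := BD.of (by decide +kernel)

theorem trP : ∀ v : NP, v * v = 1 → v ≠ 1 → v = e 1 ∨
    ∃ d, Mem mD d ∧ ∃ q, q * acP d (e 2) * q⁻¹ = v := BD.of (by decide +kernel)

theorem ne21 : (e 2 : NP) ≠ e 1 := BD.of (by decide +kernel)

variable {G : Type*} [Group G] {ψ : NP →* G} {K : Subgroup G}

/-- the embedding of `SL₂(3) ∘ SL₂(3)` -/
structure K0E (ψ : NP →* G) (φ : K0 →* G) : Prop where
  inj : Function.Injective φ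
  q : ∀ k ∈ Q0, φ k = ψ (lo tId k)
  range : φ.range = pre mdP ψ DP

theorem exists_k0 (h : St acP (e 1) ψ) (hD : DP ≤ S h.toMd ψ) : ∃ φ, K0E ψ φ := by
  obtain ⟨φ, L⟩ := h.lift hD D3.1 D3.2.1 (R.one h.toMd) (mul_one _) (D3.2.2 1) (fun _ => rfl)
    (M := K0) (lo tId) (hi tId) (BD.of (by decide +kernel))
    fun m => Or.inl ((BD.of (by decide +kernel) : ∀ m : K0, Mem mD (hi tId m : OP)) m)
  refine ⟨φ, h.lf_inj L (BD.of (by decide +kernel)), fun k hk => L.q k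
    ((BD.of (by decide +kernel) : ∀ k ∈ Q0, (hi tId k : OP) = 1) k hk), le_antisymm ?_ ?_⟩
  · rintro _ ⟨m, rfl⟩
    exact ⟨_, (BD.of (by decide +kernel) : ∀ m : K0, Mem mD (hi tId m : OP)) m, L.t m⟩
  · rintro g ⟨o, a, b⟩
    obtain ⟨m, rfl⟩ := (BD.of (by decide +kernel) : ∀ o : OP, Mem mD o → ∃ m : K0, hi tId m = o) o a
    exact h.lf_mem L (BD.of (by decide +kernel)) b

theorem K0E.ev {φ : K0 →* G} (L : K0E ψ φ) (i : ℕ) (c : (e i : K0) ∈ Q0 ∧ (lo tId (e i : K0) : NP) = e i) :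
    φ (e i) = ψ (e i) := by rw [L.q _ c.1, c.2]

theorem K0E.map {φ : K0 →* G} (L : K0E ψ φ) {A : Subgroup K0} {B : Subgroup NP}
    (c1 : ∀ k ∈ A, k ∈ Q0 ∧ lo tId k ∈ B) (c2 : ∀ q ∈ B, ∃ k ∈ A, lo tId k = q) :
    A.map φ = B.map ψ := by
  refine le_antisymm ?_ ?_
  · rintro _ ⟨k, a, rfl⟩
    exact ⟨_, (c1 k a).2, (L.q k (c1 k a).1).symm⟩
  · rintro _ ⟨q, a, rfl⟩
    obtain ⟨k, b, rfl⟩ := c2 q a
    exact ⟨k, b, L.q k (c1 k b).1⟩

theorem K0E.mapQ {φ : K0 →* G} (L : K0E ψ φ) : Q0.map φ = ψ.range :=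
  (L.map (B := ⊤) (fun _ a => ⟨a, trivial⟩) fun q _ => (BD.of (by decide +kernel) :
    ∀ q : NP, ∃ k, k ∈ Q0 ∧ lo tId k = q) q).trans (MonoidHom.range_eq_map ψ).symm

theorem fusedP (h : St acP (e 1) ψ) (hD : DP ≤ S h.toMd ψ) {g : G} (hg : g * ψ (e 1) * g⁻¹ = ψ (e 2))
    (k : NP) (a : k * k = 1) (b : k ≠ 1) : IsConj (ψ (e 1)) (ψ k) := by
  rcases trP k a b with rfl | ⟨d, c, q, f⟩
  · exact IsConj.refl _
  · obtain ⟨x, hx⟩ := hD c
    exact St.fused hx (isConj_iff.2 ⟨g, hg⟩) f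

theorem topP (h : St acP (e 1) ψ) (k : KK K ψ.range (ψ (e 1))) (hD : DP ≤ S h.toMd ψ) : ψ.range ≤ K :=
  h.le_of_fpf k.z_mem k.comm (a := e 1) (hD (BD.of (p := Mem mD (e 1 : OP)) (by decide +kernel)))
    (BD.of (by decide +kernel))

variable [Finite G]

theorem four (h : St acP (e 1) ψ) (k : KK K ψ.range (ψ (e 1))) {g : G}
    (hg : g * ψ (e 1) * g⁻¹ = ψ (e 2))
    (hI : ∀ k, ψ k ∈ ψ.range.map (MulAut.conj g).toMonoidHom → k ∈ VP) : Concl K := by
  have p := h.pair hg ne21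
  have hU : UP ≤ S h.toMd ψ := h.le_S_of_four hg ne21 VP_card
    ((card_sub (Mem mU) fun _ => Iff.rfl).trans (by decide +kernel)) hI
    (BD.of (p := ∀ o q, q * acP o (e 2) * q⁻¹ = e 2 → (∀ k, Commute k (e 2) →
      Mem mV (q * acP o k * q⁻¹ * k⁻¹)) → Mem mU o) (by decide +kernel))
  have key : ∀ u d : OP, (Mem mU u ∧ u * u = 1 ∧ u ≠ 1 ∧ ∀ b, Commute u (b * u * b⁻¹) ∨
      d = u * (b * u * b⁻¹) ∨ d = (u * (b * u * b⁻¹))⁻¹) → d ∈ S h.toMd ψ := fun u d c => by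
    by_contra hn
    refine c.2.2.1 (h.nc (hU c.1) c.2.1 fun b hb => (c.2.2.2 b).resolve_right fun a => hn ?_)
    have := mul_mem (hU c.1) (mul_mem (mul_mem hb (hU c.1)) (inv_mem hb))
    rcases a with rfl | rfl
    exacts [this, inv_mem this]
  have h1 := key (e 27) (e 1) (BD.of (by decide +kernel))
  have h3 := key (e 18) (e 3) (BD.of (by decide +kernel))
  have hΩ : ΩP ≤ S h.toMd ψ := fun o ho => by
    obtain ⟨u, a, i, -, j, -, rfl⟩ := (BD.of (by decide +kernel) : ∀ o : OP, Mem mO o → ∃ u, Mem mU u ∧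
      ∃ i ∈ [0, 1, 2], ∃ j ∈ [0, 1, 2], o = e 1 ^ i * e 3 ^ j * u) o ho
    exact mul_mem (mul_mem (pow_mem h1 _) (pow_mem h3 _)) (hU a)
  have hD : DP ≤ S h.toMd ψ := fun o ho =>
    hΩ ((BD.of (by decide +kernel) : ∀ o : OP, Mem mD o → Mem mO o) o ho)
  have hQ := topP h k hD
  by_cases hS : S h.toMd ψ ≤ ΩP
  swap
  · obtain ⟨o, o1, o2⟩ := SetLike.not_le_iff_exists.1 hS
    have all : ∀ x, x ∈ S h.toMd ψ := fun x =>
      ((BD.of (by decide +kernel) : ∀ o : OP, ¬ Mem mO o → ∀ x, Mem mO x ∨ Mem mO (x * o)) o o2 x).elim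
        (@hΩ _) fun a => (mul_mem_cancel_right o1).1 (hΩ a)
    exact (h.tr (k.noIdx hQ) ΩP (by
        rw [(eq_top_iff' _).2 all, relIndex_top_right]; exact index_sub ΩP_card rfl)
      (all (e 36)) (all (e 9)) (BD.of (by decide +kernel)) (BD.of (by decide +kernel))
      (BD.of (p := ∀ o, Mem mO o → _) (by decide +kernel)) (BD.of (by decide +kernel))
      (fusedP h hD hg)).elim
  obtain ⟨φ, L⟩ := exists_k0 h hD
  have e1 := L.ev 1 (BD.of (by decide +kernel))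
  have hP : U43.Pre φ := by
    refine ⟨L.inj, by rw [e1, h.card_C, le_antisymm hS hΩ, ΩP_card], fun x a k b => ?_,
      fun x a => ?_, fun x a b => ?_, ⟨g, e 2, BD.of (by decide +kernel), BD.of (by decide +kernel),
        by rw [e1, hg, L.ev 2 (BD.of (by decide +kernel))]⟩, fun x k a b c => ?_⟩
    · obtain ⟨k', c, d⟩ := L.mapQ.ge (h.lx.norm x (e1 ▸ a) _ (L.mapQ.le ⟨k, b, rfl⟩))
      exact ⟨k', c, d.symm⟩
    · rw [e1]
      refine h.lx.eq_of_comm fun y b => ?_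
      obtain ⟨k, c, rfl⟩ := L.mapQ.ge b
      exact (a k c).symm
    · obtain ⟨o, c⟩ := h.ex (e1 ▸ a)
      obtain ⟨m, b⟩ := b
      have d := h.eq_one (c.pow h.toMd _) (b ▸ pow_orderOf_eq_one x ▸ one_mem _)
      rcases (BD.of (by decide +kernel) : ∀ o : OP, Mem mD o ∨ ∃ j ∈ [1, 2, 3], o ^ j ≠ 1 ∧
        (o ^ j) ^ 2 = 1) o with f | ⟨j, -, f1, f2⟩
      · exact L.range.ge ⟨o, f, c⟩
      · exact absurd (He5.eq_one_of_odd_two (m := m) (k := 1) (by
          rw [← pow_mul, mul_comm, pow_mul, d, one_pow]) f2) f1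
    · rw [L.mapQ]
      rw [e1, L.q k a] at c
      obtain ⟨d, f1, q, f2⟩ := (trP (lo tId k) (h.inj (by rw [map_mul, ← c, conj_sq h.zz, map_one]))
        fun i => h.z1 (by rwa [i, map_one, conj_eq_one_iff] at c)).resolve_left
        fun i => b (L.inj (by rw [L.q k a, i, e1]))
      obtain ⟨y, hy⟩ := hD f1
      have n := h.lx.mem_normalizer (T.comm h.toMd ⟨q, y, hy, rfl⟩)
      rw [h.lx.map_conj_eq (b := ψ q * y * g) (by rw [c, ← f2, ← hy.act, ← hg]; group), map_mul,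
        show (MulAut.conj (ψ q * y) * MulAut.conj g).toMonoidHom =
          (MulAut.conj (ψ q * y)).toMonoidHom.comp (MulAut.conj g).toMonoidHom from rfl, ← map_map]
      have n' : ψ.range.map (MulAut.conj (ψ q * y)).toMonoidHom = ψ.range :=
        mem_normalizer_iff_map_conj_eq.1 n
      have i := map_inf ψ.range (ψ.range.map (MulAut.conj g).toMonoidHom)
        (MulAut.conj (ψ q * y)).toMonoidHom (MulAut.conj (ψ q * y)).injective
      rw [n'] at i
      rw [← i, card_map_conj, ← VP_card, ← card_map_of_injective h.inj]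
      congr 2
      refine le_antisymm (by rintro _ ⟨⟨k, rfl⟩, b⟩; exact ⟨k, hI k b, rfl⟩) ?_
      rintro _ ⟨k, b, rfl⟩
      refine p.V_le (p.mem_V.2 ?_)
      rcases (BD.of (by decide +kernel) : ∀ k : NP, Mem mV k → k = 1 ∨ k = e 1 ∨ k = e 2 ∨
        k = e 1 * e 2) k b with rfl | rfl | rfl | rfl <;> simp
  obtain ⟨φ, n, hP⟩ := hP.exists_fr
  obtain ⟨f⟩ := hP.main.1
  exact k.concl hQ (.inl ⟨Class.GF9, _, _, Class.card_GF9, .inr ⟨f.trans Spor.ModelU43.equiv.symm⟩⟩)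

end Cfsg.Agent.XT
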