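import Cfsg.Agent.XT.PlusA
import Cfsg.Agent.PS4.Fuse

/-! Plus type: `Q ∩ Q^g` of order eight and a Sylow `3`-subgroup of order nine. -/

set_option autoImplicit false
set_option maxRecDepth 100000
set_option synthInstance.maxHeartbeats 400000
set_option synthInstance.maxSize 4000

namespace Cfsg.Agent.XT

open Subgroup Cfsg.Agent.TT Cfsg.Agent.LES Cfsg.Agent.X32 Cfsg.Agent.Comp Cfsg.Agent.X32.TG
open Cfsg.Agent.U43 (K0 Q0)

variable {G : Type*} [Group G] [Finite G] {ψ : NP →* G} {K : Subgroup G} {g : G}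

/-- the intersection with the conjugate has order eight -/
structure Eight (ψ : NP →* G) (g : G) : Prop extends St acP (e 1) ψ where
  hg : g * ψ (e 1) * g⁻¹ = ψ (e 2)
  hI : ψ.range ⊓ ψ.range.map (MulAut.conj g).toMonoidHom = AP.map ψ

theorem invP : ∀ v : NP, v * v = 1 → v ≠ 1 → v ≠ e 1 → ∃ k l, Commute k v ∧ Commute l v ∧
    k * k = 1 ∧ l * l = 1 ∧ ¬ Commute k l := BD.of (by decide +kernel)

theorem memA : Mem mA (e 1 : NP) ∧ Mem mA (e 2 : NP) ∧ Mem mA (e 4 : NP) := BD.of (by decide +kernel)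

noncomputable def mE : ℕ := nat_lit 0xff80001ff

noncomputable def EP : Subgroup OP := sub mE (BD.of (by decide +kernel))

noncomputable def tS1 : ℕ := nat_lit 0x12000b0014000e00090005000c0013000700030017001b000f00150002000600080004001e001f001d001c00010016001a0010001100180019000d000a0000

noncomputable def tS2 : ℕ := nat_lit 0x1f001d001b002200030001000200060023001e002100200007000500080004001c0000

theorem ps1 : ∀ m n : PS4.K, (hi tS2 (m * n) : OP) = hi tS2 m * hi tS2 n ∧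
    (lo tS1 (m * n) : NP) = lo tS1 m * acP (hi tS2 m) (lo tS1 n) := BD.of (by decide +kernel)

theorem ps2 : (∀ q : NP, ∃ m : PS4.K, (hi tS2 m : OP) = 1 ∧ lo tS1 m = q) ∧
    (∀ m : PS4.K, (hi tS2 m : OP) = 1 → (lo tS1 m : NP) = 1 → m = 1) ∧
    ∀ o : OP, Mem mE o → ∃ m : PS4.K, hi tS2 m = o := BD.of (by decide +kernel)

namespace Eight

variable (h : Eight ψ g)
include h

omit [Finite G] in
theorem mem {k : NP} : ψ k ∈ ψ.range.map (MulAut.conj g).toMonoidHom ↔ Mem mA k :=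
  ⟨fun a => (mem_map_iff_mem h.inj).1 (h.hI.le ⟨⟨k, rfl⟩, a⟩), fun a => (h.hI.ge ⟨k, a, rfl⟩).2⟩

theorem exists_n : ∃ n ∈ normalizer (AP.map ψ : Set G), n * ψ (e 1) * n⁻¹ = ψ (e 2) := by
  have p := h.pair h.hg ne21
  obtain ⟨a, a1, a2⟩ := p.symm.exists_q
  obtain ⟨b, b1, b2⟩ := p.exists_q
  refine ⟨b * a, h.hI ▸ mul_mem (mem_normalizer_fintype fun x hx =>
    p.hQ.toXS.conj_mem inf_le_left ⟨p.hQ.z_mem, p.z_mem⟩ b1 hx) (mem_normalizer_fintype fun x hx =>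
      p.hP.toXS.conj_mem inf_le_right ⟨p.s_mem, p.hP.z_mem⟩ a1 hx), ?_⟩
  calc _ = b * (a * ψ (e 1) * a⁻¹) * b⁻¹ := by group
    _ = b * ψ (e 1) * b⁻¹ * (b * ψ (e 2) * b⁻¹) := by rw [a2]; group
    _ = _ := by rw [b2, conj_of_comm (p.hQ.z_comm b b1), p.sz, ← mul_assoc, h.zz, one_mul]

theorem exists_y : ∃ v k a, g * ψ v * g⁻¹ = ψ (e 1) ∧ Commute k v ∧ k * k = 1 ∧
    T acP ψ (g * ψ k * g⁻¹) a ∧ (a = e 9 ∨ a = e 27) := by
  have p := h.pair h.hg ne21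
  obtain ⟨v, k, a1, a2, a3, a4⟩ := h.exists_inv invP h.hg ne21
  obtain ⟨a, b⟩ := h.ex (x := g * ψ k * g⁻¹) (a1 ▸ (a2.map ψ).map (MulAut.conj g))
  refine ⟨v, k, a, a1, a2, a3, b, ?_⟩
  have yP : g * ψ k * g⁻¹ ∈ ψ.range.map (MulAut.conj g).toMonoidHom := ⟨_, ⟨k, rfl⟩, rfl⟩
  have yz := b.comm h.toMd
  obtain ⟨q, x, c, d⟩ := b
  generalize g * ψ k * g⁻¹ = y at *
  have yt : Commute y (ψ (e 2)) := p.hP.z_comm _ yP
  refine (BD.of (by decide +kernel) : ∀ a q, q * acP a (e 2) * q⁻¹ = e 2 →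
    q * acP a (e 4) * q⁻¹ = e 4 * e 2 → a = e 9 ∨ a = e 27) a q
    (h.inj (by rw [← c.act, ← d, conj_of_comm yt])) (h.inj ?_)
  rw [← c.act, ← d, map_mul]
  refine (p.hP.toXS.conj yP (h.mem.2 memA.2.2)).resolve_left fun f => a4 ?_
  have c1 := p.hP.toXS.card_mul_card_centralizer (A := AP.map ψ) (h.hI ▸ inf_le_right)
    ⟨_, memA.2.1, rfl⟩
  have c2 : Nat.card (AP.map ψ) = 8 := by rw [card_map_of_injective h.inj, AP_card]
  rw [card_map_conj, h.cardQ, c2] at c1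
  have := eq_of_le_of_card_ge (H := AP.map ψ) (K := ψ.range.map (MulAut.conj g).toMonoidHom ⊓
    centralizer (AP.map ψ : Set G)) (le_inf (h.hI ▸ inf_le_right) fun x a y b =>
      E_comm p (h.hI.ge b) (h.hI.ge a)) (by omega)
  refine (h.hI.ge (this.ge ⟨yP, ?_⟩)).1
  rintro _ ⟨k, i, rfl⟩
  obtain ⟨W, -, rfl⟩ := (BD.of (by decide +kernel) : ∀ k : NP, Mem mA k → ∃ W ∈ [[], [0], [1], [2],
    [0, 1], [0, 2], [1, 2], [0, 1, 2]], BN.ev (tup [e 1, e 2, e 4]) W = k) k i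
  refine (mem_cent.1 (ev_mem_of (H := (centralizer {y}).comap ψ) ?_ W)).eq
  simp only [List.forall_mem_cons]
  exact ⟨mem_cent.2 yz.symm, mem_cent.2 yt.symm, mem_cent.2 (comm_of_conj f).symm, by simp⟩

theorem stab (hD : DP ≤ S h.toMd ψ) {o : OP} (ho : o ∈ S h.toMd ψ) :
    ∃ d, Mem mD d ∧ Mem mU (d * o) := by
  have p := h.pair h.hg ne21
  obtain ⟨d, a, q, b, c⟩ := (BD.of (by decide +kernel) : ∀ o : OP, ∃ d, Mem mD d ∧ ∃ q,
    q * acP (d * o) (e 2) * q⁻¹ = e 2 ∧ (Mem mA (q * acP (d * o) (e 4) * q⁻¹) → Mem mU (d * o))) o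
  obtain ⟨x, hx⟩ := mul_mem (hD a) ho
  refine ⟨d, a, c (h.mem.1 ?_)⟩
  rw [← hx.act]
  exact p.hP.norm _ (comm_of_conj (by rw [hx.act, b])) _ (h.mem.2 memA.2.2)

theorem g23 (k : KK K ψ.range (ψ (e 1))) (hD : DP ≤ S h.toMd ψ) (hS : S h.toMd ψ = CP) : Concl K := by
  obtain ⟨φ, L⟩ := exists_k0 h.toSt hD
  have e1 := L.ev 1 (BD.of (by decide +kernel))
  have hP : G23.Pre φ := by
    refine ⟨⟨L.inj, ?_, fun x a => ?_⟩, ?_⟩
    · rw [e1, L.range, h.relIndex_pre, relIndex_of_card hD DP_card (b := 2) (hS ▸ CP_card)]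
    · obtain ⟨o, b⟩ := h.ex (e1 ▸ a)
      have c := hS.le (b.mem h.toMd)
      obtain ⟨q, y, b, rfl⟩ := b
      rw [L.ev 13 (BD.of (by decide +kernel)), L.ev 17 (BD.of (by decide +kernel)), b.act]
      exact ((BD.of (by decide +kernel) : ∀ o, Mem mC o → ∀ q,
        Commute (q * acP o (e 13) * q⁻¹) (e 17)) o c q).map ψ
    · rw [e1, L.ev 2 (BD.of (by decide +kernel)), L.map (B := AP)
        (BD.of (p := ∀ k, k ∈ G23.A0 → k ∈ Q0 ∧ Mem mA (lo tId k : NP)) (by decide +kernel))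
        (BD.of (p := ∀ q : NP, Mem mA q → ∃ k, k ∈ G23.A0 ∧ lo tId k = q) (by decide +kernel))]
      exact h.exists_n
  obtain ⟨φ, n, hP⟩ := hP.exists_fr
  obtain ⟨f⟩ := hP.main
  exact k.concl (topP h.toSt k hD) (.inr (.inr (.inl ⟨ZMod 3, _, _, ZMod.card 3,
    .inr ⟨f.trans Spor.ModelG23.equiv.symm⟩⟩)))

theorem ps4 (hD : DP ≤ S h.toMd ψ) (hS : S h.toMd ψ ≤ EP) {y : G} (hy : T acP ψ y (e 27))
    (y2 : y * y = 1) : False := by
  obtain ⟨x, hx⟩ := hy.mem h.toMd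
  obtain ⟨φ, L⟩ := h.lift hD D3.1 D3.2.1 hx (h.spl hy y2 (BD.of (by decide +kernel)) hx) (D3.2.2 _)
    (fun a => absurd a (BD.of (p := ¬ Mem mD (e 27 : OP)) (by decide +kernel)))
    (M := PS4.K) (lo tS1) (hi tS2) ps1
    (BD.of (p := ∀ m : PS4.K, Mem mD (hi tS2 m : OP) ∨ Mem mD (hi tS2 m * e 27 : OP)) (by decide +kernel))
  have c : ((hi tS2 (e 9 : PS4.K) : OP) = 1 ∧ (lo tS1 (e 9 : PS4.K) : NP) = e 1) ∧
    ((hi tS2 (PS4.io (e 4)) : OP) = 1 ∧ (lo tS1 (PS4.io (e 4)) : NP) = e 31) ∧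
    ((e 31 : NP) * e 31 = 1 ∧ (e 31 : NP) ≠ 1) ∧ (∀ k, Commute k (e 9 : PS4.K)) ∧
    (e 9 : PS4.K) * e 9 = 1 ∧ (e 9 : PS4.K) ≠ 1 := BD.of (by decide +kernel)
  have e1 : φ (e 9) = ψ (e 1) := by rw [L.q _ c.1.1, c.1.2]
  refine (PS4.nA (φ := φ) ⟨h.lf_inj L ps2.2.1, fun x a => ?_, c.2.2.2.1,
    c.2.2.2.2.1, c.2.2.2.2.2⟩ (Or.inr (Or.inr rfl)) ?_).1 rfl
  · obtain ⟨o, b⟩ := h.ex (e1 ▸ a)
    obtain ⟨m, d⟩ := ps2.2.2 o (hS (b.mem h.toMd))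
    exact h.lf_mem L ps2.1 (m := m) (d ▸ b)
  · rw [e1, L.q _ c.2.1.1, c.2.1.2]
    exact fusedP h.toSt hD h.hg _ c.2.2.1.1 c.2.2.1.2

end Eight

end Cfsg.Agent.XT
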