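import Cfsg.Agent.XT.PlusA
import Cfsg.Agent.Comp.MatClass

/-! The centraliser of an involution of `G₂(2)` as a table group, and its subgroup `GU₂(3)`. -/

set_option autoImplicit false
set_option maxRecDepth 100000
set_option synthInstance.maxHeartbeats 400000
set_option synthInstance.maxSize 4000

namespace Cfsg.Agent.XT

open Subgroup Cfsg.Agent.X32 Cfsg.Agent.Comp Cfsg.Agent.X32.TG Cfsg.Agent.PS4
open Cfsg.Agent.Class (GF9)

noncomputable def TS : Tab := ⟨nat_lit 6, t8 (nat_lit 0x102030405020001050304010200040503040305010002030504000201050403020100) (nat_lit 6),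
  t16 (nat_lit 0x500040003000100020000)⟩

noncomputable def TMa : ℕ → ℕ → ℕ := t8 (nat_lit 0x6021c1d1a1b0d0a16170904121310110508190b0c18150e071f0f14031e01001f1e18191a1b1c1d16170b0c0e0f101112130a14150d0405060708090203010007030d0a1a1b181916171415050810110e0f1d09041c0c121f06130b1e020100070319181b1a0a0d171604090f0e111008051c15141d0b13061f120c021e010006020a0d1b1a1d1c17160c0b08051110131218040919140f1f070e151e0301001f1e1d1c1b1a191817161514131211100f0e0d0c0b0a09080706050403020100) (nat_lit 32)

noncomputable def TMi : ℕ → ℕ := t16 (nat_lit 0xa600a200bd00bc00b600b700aa00ad00ba00bb00a900a400b200b300b100b000a500a800b800ab00ac00b900b500ae00a700bf00af00b400a300be00a100a0009f009e0099009800960097009d009c009a009b008b008c008e008f0091009000920093008d00940095008a008400850086008700880089008200830081008000670063006a006d0076007700790078007a007b007400750065006800710070006e006f007c00690064007d006c0072007f00660073006b007e00620061006000260022002d002a00370036003c003d003b003a002c002b00280025003000310033003200390024002900380034002f003f0027002e0035003e002300210020004700430058005900570056004d004a005b005a00440049004f004e0050005100480045005d00550054005c004b00530046005f0052004c0042005e00410040001f001e001c001d0017001600180019001b001a001500140013001200100011000f000e000a000c000b000d0009000800070006000500040003000200010000)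

noncomputable def TM : Tab := sd U43.TQ TS (nat_lit 192) (nat_lit 32) TMa TMi

instance factTM : Fact TM.OK :=
  ⟨ok_sd U43.okTQ (ok_of_chkA (by decide) (by decide +kernel)) rfl rfl (by decide +kernel)⟩

abbrev MB := TG TM

noncomputable def tB : ℕ := nat_lit 0x11000d0009000800040000

noncomputable def mB : ℕ := nat_lit 0x22311

noncomputable def mW : ℕ := nat_lit 0x111

noncomputable def mO1 : ℕ := nat_lit 0xc00000cc

noncomputable def mX : ℕ := nat_lit 0xf30324cff30324cff30324cf

noncomputable def mH : ℕ := nat_lit 0xcfcdb300cfcdb300cfcdb30f30324cff30324cff30324cf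

noncomputable def WP : Subgroup OP := sub mW (BD.of (by decide +kernel))

noncomputable def HB : Subgroup MB := sub mH (BD.of (by decide +kernel))

theorem HB_card : Nat.card HB = 96 := (card_sub (Mem mH) fun _ => Iff.rfl).trans (by decide +kernel)

theorem mb1 : ∀ m n : MB, (hi tB (m * n) : OP) = hi tB m * hi tB n ∧
    (lo tId (m * n) : NP) = lo tId m * acP (hi tB m) (lo tId n) := BD.of (by decide +kernel)

theorem mb2 : (∀ q : NP, ∃ m : MB, (hi tB m : OP) = 1 ∧ lo tId m = q) ∧
    (∀ m : MB, (hi tB m : OP) = 1 → (lo tId m : NP) = 1 → m = 1) ∧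
    (∀ o : OP, Mem mB o → ∃ m : MB, hi tB m = o) ∧
    (∀ m : MB, Mem mW (hi tB m : OP) ∨ Mem mW (hi tB m * e 9 : OP)) ∧
    (∀ m : MB, Mem mX m → Mem mH m ∧ ∃ a b, m = a * b * a⁻¹ * b⁻¹) ∧
    (∀ m : MB, Mem mH m ∨ ∃ x, Mem mX x ∧ (x * m = e 96 ∨ x * m = e 4)) ∧
    (∀ m : MB, Mem mH m → (hi tB m : OP) = 1 → Mem mX m) ∧
    (∀ m : MB, m * m = 1 → (hi tB m : OP) ≠ 1 → ∃ c, c * m * c⁻¹ = e 96) ∧
    ∀ m : MB, Mem mH m → m * m = 1 → (hi tB m : OP) = 1 ∧
      ((lo tId m : NP) = 1 ∨ (lo tId m : NP) = e 1 ∨ Mem mO1 (lo tId m : NP)) :=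
  BD.of (by decide +kernel)

noncomputable def tMat : ℕ := nat_lit 0xaaa5999600000000555a6669aa5a996996665aaa0000000055a5669600006999a55500006966a5aa0000000096995a5500000000000000000000000000000000569a6a5900000000a96595a656656aa65995655600000000a99a95590000a66a9aa90000a6959a5600000000596a65a900000000000000000000000000000000028008100000000001400420024008201004400200000000018004100000200880010000200480020000000010084001000000000000000056a6a9595659a9a6000000009a95656a00000000000000000000000065959a6a000000006a9a000000009565000000006a65595600000000959aa6a9a65659a9aa695596aa96556900000000a5665a990000000000000000000000005a66a5990000000099a500000000665a00000000995a96aa0000000066a5695569aa965502200110021001200000000080044008000000000000000000000000400480080000000008800000000004400000000008401002000000000480200120021001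

/-- an element of the field with nine elements -/
def g9 (c : ℕ) : GF9 := ⟨Fin.ofNat 3 (Nat.land c 3), Fin.ofNat 3 (Nat.land (Nat.shiftRight c 2) 3)⟩

/-- the matrix of an element -/
noncomputable def mat (m : MB) : Matrix (Fin 2) (Fin 2) GF9 :=
  force (t16 tMat m.v) fun c =>
    !![g9 c, g9 (Nat.shiftRight c 4); g9 (Nat.shiftRight c 8), g9 (Nat.shiftRight c 12)]

instance bdMat (A B : Matrix (Fin 2) (Fin 2) GF9) : BD (A = B) (decide (A = B)) := ⟨decide_eq_true_iff⟩

theorem mat1 : mat 1 = 1 ∧ (∀ m : MB, Mem mH m → mat m = 1 → m = 1) ∧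
    (∀ m : MB, Mem mH m → m = 1 ∨ ∃ g ∈ es [1, 2, 3, 16, 32, 100], Mem mH (g⁻¹ * m) ∧ (g⁻¹ * m).v < m.v) ∧
    ∀ g ∈ es [1, 2, 3, 16, 32, 100], ∀ m : MB, Mem mH m → mat (g * m) = mat g * mat m :=
  BD.of (by decide +kernel)

theorem mat_mul (a : MB) (ha : a ∈ HB) : ∀ b ∈ HB, mat (a * b) = mat a * mat b := by
  induction hk : a.v using Nat.strong_induction_on generalizing a with
  | _ n ih =>
    intro b hb
    rcases mat1.2.2.1 a ha with rfl | ⟨g, hg, h1, h2⟩
    · rw [one_mul, mat1.1, one_mul]
    · have := mat1.2.2.2 g hg _ (mul_mem (show g⁻¹ * a ∈ HB from h1) hb)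
      rw [ih _ (hk ▸ h2) _ h1 rfl b hb, ← mul_assoc (mat g), ← mat1.2.2.2 g hg _ h1] at this
      simpa [← mul_assoc] using this

theorem mat_GU : ∀ i : Fin 192, Mem mH (e i : MB) → ∀ a b,
    ∑ k, mat (e i) k a * mat (e i) k b ^ 3 = if a = b then 1 else 0 := by
  unfold Mem
  decide +kernel

theorem equiv_GU : Nonempty (HB ≃* GU 2 GF9 3) := by
  let f : HB →* Matrix (Fin 2) (Fin 2) GF9 :=
    ⟨⟨fun m => mat m, mat1.1⟩, fun a b => mat_mul _ a.2 _ b.2⟩
  have hF : Fintype.card GF9 = 3 ^ 2 := Class.card_GF9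
  let ν : HB →* GU 2 GF9 3 := f.toHomUnits.codRestrict _ fun m =>
    Kron.mem_GU_of hF (M := mat m) rfl (by
      have := mat_GU ⟨m.1.v, m.1.lt⟩
      rw [e_v] at this
      exact this m.2)
  have := Class.U.UF.of_card hF
  refine ⟨MulEquiv.ofBijective ν ((Nat.bijective_iff_injective_and_card ν).2 ⟨?_, ?_⟩)⟩
  · exact (injective_iff_map_eq_one ν).2 fun m h => Subtype.ext (mat1.2.1 _ m.2
      (congrArg (fun x : GU 2 GF9 3 => ((x : GL (Fin 2) GF9) : Matrix (Fin 2) (Fin 2) GF9)) h))
  · rw [HB_card, Class.U.card_GU]; decide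

end Cfsg.Agent.XT
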